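import Cfsg.Agent.KFacts.CoTwo.RSub
import Cfsg.Agent.KFacts.LargeO2
import Cfsg.Agent.Co2Type.FactsClass

/-!
# `R = O₂(C(z))` in `Spor.Co2` is a large extraspecial subgroup of order `2^9` (helper902)
-/

set_option autoImplicit false
set_option linter.dupNamespace false
set_option linter.unusedVariables false

namespace Cfsg.Agent.KFacts.CoTwo.RLarge

open Cfsg Cfsg.Agent.SporadicA.GolayBase Cfsg.Agent.SporadicA.GolayPerm
open Cfsg.Agent.SporadicStructure.M24El Cfsg.Agent.SporadicA.Co0Mono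
open Cfsg.Agent.Co2Type.Mono Cfsg.Agent.Co2Type.TGroup Cfsg.Agent.Co2Type.TData Cfsg.Agent.Co2Type.FactsD
open Cfsg.Agent.Co2Type.TCard
open Cfsg.Agent.SporadicStructure.Co0Base (e8 e8_coe)
open Cfsg.Agent.SporadicStructure.LeechBase (zmod2_cases)
open Cfsg.Agent.SporadicA.Co1Simple (N exists_sign_perm sign_mem_N)
open Cfsg.Agent.KFacts.CoTwo.Base Cfsg.Agent.KFacts.CoTwo.Data Cfsg.Agent.KFacts.CoTwo.MPerf
open Cfsg.Agent.KFacts.CoTwo.Perf Cfsg.Agent.KFacts.CoTwo.RData Cfsg.Agent.KFacts.CoTwo.RSub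
open scoped Pointwise commutatorElement

/-! ### the centre of `R` -/

theorem chkFaithR : (R16.all fun Q => Nat.beq Q idP || S32.any fun n => !(Nat.beq (pimg Q n) n)) = true := by
  decide +kernel

theorem idP_mem : idP ∈ R16 := memL_iff.1 (by decide +kernel)

theorem ge_mem_R {n : ℕ} (hn : n ∈ S32) : ge n ∈ R := mo2_mem_R hn idP_mem

theorem zero_mem : 0 ∈ S32 := memL_iff.1 (by decide +kernel)

theorem mz_mem : mz ∈ S32 := memL_iff.1 (by decide +kernel)

theorem chkFixR : (allSp B10 (fun m => (Nat.beq m 0 || Nat.beq m mz) || R16.any fun Q => !(Nat.beq (pimg Q m) m)) 0) = true := by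
  decide +kernel

/-- a mask fixed by the sixteen permutations -/
theorem mask_fixed {m : ℕ} (hm : inE m = true) (h : ∀ Q ∈ R16, pimg Q m = m) : m = 0 ∨ m = mz := by
  have h1 := allSp_zero chkFixR (sp_B10 hm)
  rw [Bool.or_eq_true, Bool.or_eq_true, List.any_eq_true] at h1
  rcases h1 with (h1 | h1) | ⟨Q, hQ, h1⟩
  · exact Or.inl (Nat.eq_of_beq_eq_true h1)
  · exact Or.inr (Nat.eq_of_beq_eq_true h1)
  · rw [h Q hQ, Nat.beq_refl] at h1
    exact absurd h1 (by simp)

theorem idP_of_fixed {Q : ℕ} (hQ : Q ∈ R16) (h : ∀ n ∈ S32, pimg Q n = n) : Q = idP := by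
  have h1 := List.all_eq_true.1 chkFaithR Q hQ
  rw [Bool.or_eq_true, List.any_eq_true] at h1
  rcases h1 with h1 | ⟨n, hn, h1⟩
  · exact Nat.eq_of_beq_eq_true h1
  · rw [h n hn, Nat.beq_refl] at h1
    exact absurd h1 (by simp)

/-- an element `ge m` commuting with `R` -/
theorem ge_cent {m : ℕ} (hm : inE m = true) (h : ∀ y ∈ R, ge m * y = y * ge m) : ge m = 1 ∨ ge m = ge mz := by
  have h1 : m = 0 ∨ m = mz := by
    refine mask_fixed hm fun Q hQ => ?_
    have h2 := h _ (mo2_mem_R zero_mem hQ)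
    exact (comm_E_iff inE_zero hm (okP_of_mem (mem_L22_of_R16 hQ)) (lt_of_mem (mem_L22_of_R16 hQ))).1 h2.symm
  rcases h1 with rfl | rfl
  · exact Or.inl ge_zero
  · exact Or.inr rfl

theorem cent_R {x : Spor.Co2} (hx : x ∈ R) (h : ∀ y ∈ R, x * y = y * x) : x = 1 ∨ x = ge mz := by
  obtain ⟨m, Q, hm, hQ, rfl⟩ := exists_of_mem_R hx
  have hE := (mem_S32_iff.1 hm).1
  have h1 : Q = idP := by
    refine idP_of_fixed hQ fun n hn => ?_
    exact (comm_E_iff hE (mem_S32_iff.1 hn).1 (okP_of_mem (mem_L22_of_R16 hQ)) (lt_of_mem (mem_L22_of_R16 hQ))).1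
      (h _ (ge_mem_R hn))
  subst h1
  exact ge_cent hE h

/-! ### `C(R) ≤ R` -/

/-- the sixteen points are separated by the masks -/
def L24 : List ℕ := [0, 1, 2, 3, 4, 5, 6, 7, 8, 9, 10, 11, 12, 13, 14, 15, 16, 17, 18, 19, 20, 21, 22, 23]

theorem mem_L24 {i : ℕ} (h : i < 24) : i ∈ L24 := by
  have : ∀ i < 24, i ∈ L24 := by decide
  exact this i h

theorem chkSep : (L24.all fun j => Nat.beq (Nat.land 1 (Nat.shiftRight mO j)) 1 || L24.all fun i => Nat.beq i j ||
    E5.any fun m => Bool.xor (m.testBit i) (m.testBit j)) = true := by decide +kernel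

theorem chkE5 : (E5.all fun m => memL m S32) = true := by decide +kernel

theorem mem_E5 {m : ℕ} (h : m ∈ E5) : m ∈ S32 := memL_iff.1 (List.all_eq_true.1 chkE5 m h)

theorem toCo0_ge {m : ℕ} (hm : inE m = true) : toCo0 (ge m) = signCo0 (cd m) := by
  unfold ge
  rw [toCo0_mo2 hm okP_idP]
  unfold mo
  rw [el_idP, map_one, mul_one]

theorem ge_smul {m : ℕ} (hm : inE m = true) (x : leechLattice) (i : GolayPt) :
    ((toCo0 (ge m) • x : leechLattice) : GolayPt → ℤ) i = sgn (word m i) * (x : GolayPt → ℤ) i := by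
  rw [toCo0_ge hm, signCo0_smul, signMap_apply, coe_cd (isCode_of_inE hm)]

theorem ge_e8 {m : ℕ} (hm : inE m = true) (j : GolayPt) : 
    toCo0 (ge m) • e8 j = if m.testBit (idx j) then -(e8 j) else e8 j := by
  apply Subtype.ext
  funext k
  rw [ge_smul hm]
  split_ifs with h
  · show _ = -((e8 j : leechLattice) : GolayPt → ℤ) k
    rw [e8_coe, Pi.single_apply]
    by_cases hk : k = j
    · subst hk
      rw [if_pos rfl, word_apply, if_pos h, sgn_one]; ring
    · rw [if_neg hk]; ring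
  · rw [e8_coe, Pi.single_apply]
    by_cases hk : k = j
    · subst hk
      rw [if_pos rfl, word_apply, if_neg h, sgn_zero]; ring
    · rw [if_neg hk]; ring

theorem supp_cent {g : Spor.Co2} (h : ∀ x ∈ R, g * x = x * g) {j : GolayPt} (hj : j ∉ O) (i : GolayPt) (hi : i ≠ j) :
    ((toCo0 g • e8 j : leechLattice) : GolayPt → ℤ) i = 0 := by
  have h1 := List.all_eq_true.1 chkSep (idx j) (List.mem_range.2 (idx_lt j))
  rw [Bool.or_eq_true] at h1
  rcases h1 with h1 | h1
  · refine absurd (mem_fin.2 ?_) hj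
    have h2 : 1 &&& (mO >>> (idx j)) = 1 := Nat.eq_of_beq_eq_true h1
    unfold Nat.testBit
    rw [h2]; rfl
  · have h2 := List.all_eq_true.1 h1 (idx i) (List.mem_range.2 (idx_lt i))
    rw [Bool.or_eq_true, List.any_eq_true] at h2
    rcases h2 with h2 | ⟨m, hm', h2⟩
    · exact absurd (idx_injective (Nat.eq_of_beq_eq_true h2)) hi
    · have hm := mem_E5 hm'
      have hE := (mem_S32_iff.1 hm).1
      have h3 : toCo0 (ge m) • (toCo0 g • e8 j) = toCo0 g • (toCo0 (ge m) • e8 j) := by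
        rw [← mul_smul, ← map_mul, ← h _ (ge_mem_R hm), map_mul, mul_smul]
      have h4 := ge_smul hE (toCo0 g • e8 j) i
      rw [h3, ge_e8 hE, word_apply] at h4
      have h2 : m.testBit (idx i) ≠ m.testBit (idx j) := by
        intro hc
        rw [hc, Bool.xor_self] at h2
        exact absurd h2 (by simp)
      by_cases hj' : m.testBit (idx j) = true
      · rw [if_pos hj'] at h4
        have hi' : m.testBit (idx i) = false := by
          by_contra hc
          rw [Bool.not_eq_false] at hc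
          exact h2 (hc.trans hj'.symm)
        rw [hi'] at h4
        have h5 : toCo0 g • (-(e8 j)) = -(toCo0 g • e8 j) := smul_neg _ _
        rw [h5] at h4
        have h6 : ((-(toCo0 g • e8 j) : leechLattice) : GolayPt → ℤ) i = -((toCo0 g • e8 j : leechLattice) : GolayPt → ℤ) i := rfl
        rw [h6] at h4
        simp only [Bool.false_eq_true, if_false, sgn_zero, one_mul] at h4
        omega
      · rw [if_neg hj'] at h4
        have hi' : m.testBit (idx i) = true := by
          by_contra hc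
          rw [Bool.not_eq_true] at hc hj'
          exact h2 (hc.trans hj'.symm)
        rw [if_pos hi', sgn_one] at h4
        omega

/-- the norm of the image -/
theorem pm_e8 {g : Spor.Co2} (h : ∀ x ∈ R, g * x = x * g) {j : GolayPt} (hj : j ∉ O) :
    toCo0 g • e8 j = e8 j ∨ toCo0 g • e8 j = -(e8 j) := by
  have h1 := supp_cent h hj
  have h2 : sqNorm ((toCo0 g • e8 j : leechLattice) : GolayPt → ℤ) = 64 := by
    rw [Cfsg.Agent.SporadicA.Co0Mono.sqNorm_smul]
    exact Cfsg.Agent.SporadicA.Co1Simple.sqNorm_e8 j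
  have h3 : sqNorm ((toCo0 g • e8 j : leechLattice) : GolayPt → ℤ) =
      ((toCo0 g • e8 j : leechLattice) : GolayPt → ℤ) j ^ 2 := by
    unfold sqNorm
    rw [Finset.sum_eq_single j]
    · intro b _ hb
      rw [h1 b hb]; ring
    · intro hc
      exact absurd (Finset.mem_univ j) hc
  rw [h3] at h2
  have h4 : ((toCo0 g • e8 j : leechLattice) : GolayPt → ℤ) j = 8 ∨
      ((toCo0 g • e8 j : leechLattice) : GolayPt → ℤ) j = -8 := by
    have h5 : (((toCo0 g • e8 j : leechLattice) : GolayPt → ℤ) j - 8) *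
        (((toCo0 g • e8 j : leechLattice) : GolayPt → ℤ) j + 8) = 0 := by linear_combination h2
    rcases mul_eq_zero.1 h5 with h5 | h5
    · left; omega
    · right; omega
  rcases h4 with h4 | h4
  · left
    apply Subtype.ext
    funext k
    rw [e8_coe, Pi.single_apply]
    by_cases hk : k = j
    · rw [if_pos hk, hk, h4]
    · rw [if_neg hk, h1 k hk]
  · right
    apply Subtype.ext
    funext k
    show _ = -((e8 j : leechLattice) : GolayPt → ℤ) k
    rw [e8_coe, Pi.single_apply]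
    by_cases hk : k = j
    · rw [if_pos hk, hk, h4]
    · rw [if_neg hk, h1 k hk]; ring

theorem mem_N_of_cent {g : Spor.Co2} (h : ∀ x ∈ R, g * x = x * g) : toCo0 g ∈ N := by
  have hj : pt 1 ∉ O := by unfold O; decide +kernel
  rcases pm_e8 h hj with h1 | h1
  · exact Co1.OctGen.mem_N_of_smul_e8 h1
  · have h2 : (signCo0 Cfsg.Agent.SporadicA.Co1Simple.allOne * toCo0 g) • e8 (pt 1) = e8 (pt 1) := by
      rw [mul_smul, h1, Cfsg.Agent.SporadicA.Co1Simple.allOne_smul, neg_neg]
    have h3 := Co1.OctGen.mem_N_of_smul_e8 h2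
    have h4 := N.mul_mem (N.inv_mem (sign_mem_N Cfsg.Agent.SporadicA.Co1Simple.allOne)) h3
    rwa [inv_mul_cancel_left] at h4

theorem o1_mem : fin 31554 ∈ octads := by
  apply Cfsg.Agent.SporadicStructure.M24Frame.fin_mem_octads_of_isOct
  decide +kernel

theorem el_one_of_fix {Q : ℕ} (h : ∀ j, j ∉ O → (el Q : Equiv.Perm GolayPt) j = j) : el Q = 1 := by
  apply Subtype.ext
  refine Cfsg.Agent.SporadicStructure.M24Frame.eq_one_of_fix_frame (el Q).2 o1_mem
    (s := fin 31554) subset_rfl (by rw [octad_card o1_mem]; norm_num) ?_ (p := pt 4) (by decide +kernel)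
    (h _ (by unfold O; decide +kernel))
  intro i hi
  apply h
  have : ∀ i : GolayPt, i ∈ fin 31554 → i ∉ O := by unfold O; decide +kernel
  exact this i hi

theorem self_R {g : Spor.Co2} (h : ∀ x ∈ R, g * x = x * g) : g ∈ R := by
  obtain ⟨m, Q, hm, hQ, hlt, rfl⟩ := mono_of_N (mem_N_of_cent h)
  have h1 : ∀ j, j ∉ O → (el Q : Equiv.Perm GolayPt) j = j := by
    intro j hj
    have h2 : (el Q : Equiv.Perm GolayPt).symm j = j := by
      by_contra hc
      have h3 := mo2_smul hm hQ (e8 j) j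
      rw [e8_coe, Pi.single_eq_of_ne hc, mul_zero] at h3
      rcases pm_e8 h hj with h4 | h4
      · rw [h4, e8_coe, Pi.single_eq_same] at h3
        norm_num at h3
      · rw [h4] at h3
        change -((e8 j : leechLattice) : GolayPt → ℤ) j = 0 at h3
        rw [e8_coe, Pi.single_eq_same] at h3
        norm_num at h3
    exact ((Equiv.symm_apply_eq _).1 h2).symm
  have h2 : Q = idP := by
    apply el_inj (ok_of_okP hQ) ok_idP hlt idP_lt
    rw [el_one_of_fix h1, el_idP]
  subst h2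
  change ge m ∈ R
  rcases ge_cent hm h with h3 | h3
  · rw [h3]; exact R.one_mem
  · rw [h3]; exact ge_mem_R mz_mem

/-- **`R` is a large extraspecial subgroup.** -/
theorem large : Cfsg.Agent.Co2Type.Quad.Large R (ge mz) where
  z_mem := ge_mem_R mz_mem
  z_ne := by
    intro h
    have h1 := (mo2_injT iz inE_zero (mem_L22_of_R16 idP_mem) (mem_L22_of_R16 idP_mem) (h.trans mo2_one.symm)).1
    exact absurd h1 (by decide)
  z_sq := ge_sq iz
  comm_z := fun x hx => z_R hx
  conj_mem := fun g hg x hx => RSub.conj_mem (mem_P.2 hg) hx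
  sq := fun x hx => sq_R hx
  comm := fun x hx y hy => comm_R hx hy
  cent := fun x hx h => cent_R hx h
  self := fun g hg h => self_R h

/-! ### the order of `R` -/

theorem coe_R : (R : Set Spor.Co2) = (fun t : ℕ × ℕ => mo2 t.1 t.2) '' ((S32.toFinset ×ˢ R16.toFinset : Finset (ℕ × ℕ)) : Set (ℕ × ℕ)) := by
  ext x
  constructor
  · intro hx
    obtain ⟨m, Q, hm, hQ, rfl⟩ := exists_of_mem_R hx
    exact ⟨(m, Q), by rw [Finset.mem_coe, Finset.mem_product]; exact ⟨List.mem_toFinset.2 hm, List.mem_toFinset.2 hQ⟩, rfl⟩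
  · rintro ⟨⟨m, Q⟩, h, rfl⟩
    rw [Finset.mem_coe, Finset.mem_product] at h
    exact mo2_mem_R (List.mem_toFinset.1 h.1) (List.mem_toFinset.1 h.2)

theorem card_R : Nat.card R = 2 ^ 9 := by
  have h1 : Nat.card R = (R : Set Spor.Co2).ncard := Nat.card_coe_set_eq _
  rw [h1, coe_R, Set.InjOn.ncard_image, Set.ncard_coe_finset, Finset.card_product, List.toFinset_card_of_nodup nodup_S32,
    List.toFinset_card_of_nodup nodup_R16]
  · rfl
  · rintro ⟨m, Q⟩ h ⟨n, S⟩ h' he
    rw [Finset.mem_coe, Finset.mem_product] at h h'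
    have hm := mem_S32_iff.1 (List.mem_toFinset.1 h.1)
    have hn := mem_S32_iff.1 (List.mem_toFinset.1 h'.1)
    obtain ⟨h1, h2⟩ := mo2_injT hm.1 hn.1 (mem_L22_of_R16 (List.mem_toFinset.1 h.2))
      (mem_L22_of_R16 (List.mem_toFinset.1 h'.2)) he
    exact Prod.ext h1 h2

/-! ### weak closure of `z` -/

theorem chkTr : (R16.all fun Q => S32.all fun m => (Nat.beq Q idP && Nat.beq m mz) || !(tA m Q)) = true := by
  decide +kernel

theorem weakly {x : Spor.Co2} (hx : x ∈ R) (h : IsConj (ge mz) x) : x = ge mz := by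
  have h1 := (trA h).2
  obtain ⟨m, Q, hm, hQ, rfl⟩ := exists_of_mem_R hx
  rw [tr_mo2' (mem_S32_iff.1 hm).1 (mem_L22_of_R16 hQ), ← tA_iff] at h1
  have h2 := List.all_eq_true.1 (List.all_eq_true.1 chkTr Q hQ) m hm
  rw [h1, Bool.not_true, Bool.or_false, Bool.and_eq_true] at h2
  rw [Nat.eq_of_beq_eq_true h2.1, Nat.eq_of_beq_eq_true h2.2]
  rfl

end Cfsg.Agent.KFacts.CoTwo.RLarge
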