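import Cfsg.Agent.KFacts.CoTwo.QuotInst
import Cfsg.Agent.KFacts.OutTwo

/-!
# `Spor.Co2` has no outer automorphism (helper902)
-/

set_option autoImplicit false

namespace Cfsg.Agent.KFacts.CoTwo.Main

open Cfsg Cfsg.Agent.KFacts.OutTwo

/-- `Aut(Co2) = Inn(Co2)` -/
theorem range_conj : (MulAut.conj : Spor.Co2 →* MulAut Spor.Co2).range = ⊤ := by
  rw [eq_top_iff]
  intro α _
  obtain ⟨k, rfl⟩ := QuotInst.allInner α
  exact ⟨k, rfl⟩

/-- an automorphism of `Spor.Co2` whose square is inner is inner -/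
theorem noOut2 : NoOut2 Spor.Co2 := fun α _ => by
  rw [range_conj]
  exact Subgroup.mem_top α

/-- an automorphism of a group isomorphic to `Spor.Co2` is inner -/
theorem allInner_iso {X : Type*} [Group X] (e : X ≃* Spor.Co2) (α : MulAut X) : ∃ k : X, α = MulAut.conj k := by
  obtain ⟨k, hk⟩ := QuotInst.allInner ((e.symm.trans α).trans e)
  refine ⟨e.symm k, ?_⟩
  ext x
  have h1 := congrArg (fun f : MulAut Spor.Co2 => e.symm (f (e x))) hk
  simpa using h1

end Cfsg.Agent.KFacts.CoTwo.Main
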