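import Cfsg.Agent.KFacts.CoTwo.Data
import Cfsg.Agent.KFacts.Co1.OctGen
import Cfsg.Agent.Co2Type.FactsCo2

/-!
# Elements of `Spor.Co2` fixing a vector of the frame (helper902)

`mono_of_fix`: an element of `Spor.Co2` fixing `8 e_∞` is monomial.
`perm_mem`: a subgroup of `M24` containing the commutators `U0 .. U4` contains every element that preserves the octad
`O` and fixes the points `∞`, `0`.
-/

set_option autoImplicit false
set_option linter.dupNamespace false

namespace Cfsg.Agent.KFacts.CoTwo.Base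

open Cfsg Cfsg.Agent.SporadicA.GolayBase Cfsg.Agent.SporadicA.GolayPerm
open Cfsg.Agent.SporadicStructure.M24El Cfsg.Agent.SporadicA.Co0Mono
open Cfsg.Agent.Co2Type.Mono Cfsg.Agent.Co2Type.TGroup Cfsg.Agent.Co2Type.TData Cfsg.Agent.Co2Type.FactsD
open Cfsg.Agent.SporadicStructure.Co0Base (e8 e8_coe)
open Cfsg.Agent.SporadicA.Co1Simple (exists_sign_perm)
open scoped Pointwise

/-! ### points -/

theorem idx_none : idx none = 23 := rfl

theorem pt23 : pt 23 = none := by decide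

theorem pt0 : pt 0 = some 0 := by decide

/-- `8 e_∞ + 8 e_0 = 2 v` -/
theorem e8_add : e8 none + e8 (some 0) = (2 : ℕ) • Spor.leechU := by
  apply Subtype.ext
  funext p
  show ((e8 none : leechLattice) : GolayPt → ℤ) p + ((e8 (some 0) : leechLattice) : GolayPt → ℤ) p =
    ((2 • Spor.leechU : leechLattice) : GolayPt → ℤ) p
  have h : ((2 • Spor.leechU : leechLattice) : GolayPt → ℤ) p = 2 * ((Spor.leechU : leechLattice) : GolayPt → ℤ) p := by
    show (2 • ((Spor.leechU : leechLattice) : GolayPt → ℤ)) p = _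
    rw [Pi.smul_apply]; simp
  rw [h, leechU_apply, e8_coe, e8_coe]
  revert p
  decide

/-! ### monomial elements -/

theorem toCo0_smul_leechU (g : Spor.Co2) : toCo0 g • Spor.leechU = Spor.leechU := g.2.2

/-- An element fixing `8 e_∞` is monomial. -/
theorem mono_of_fix {g : Spor.Co2} (h : toCo0 g • e8 none = e8 none) :
    ∃ m Q, inE m = true ∧ okP Q = true ∧ Q < 2 ^ 120 ∧ papp Q 0 = 0 ∧ papp Q 23 = 23 ∧ g = mo2 m Q := by
  have h0 : toCo0 g • e8 (some 0) = e8 (some 0) := by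
    have h1 : toCo0 g • (e8 none + e8 (some 0)) = e8 none + e8 (some 0) := by
      rw [e8_add, smul_nsmul, toCo0_smul_leechU]
    rw [smul_add, h] at h1
    exact add_left_cancel h1
  obtain ⟨c, σ, hcσ⟩ := exists_sign_perm (Co1.OctGen.mem_N_of_smul_e8 h)
  obtain ⟨m, hm, rfl⟩ := exists_cd c
  obtain ⟨Q, hQ, hlt, rfl⟩ := exists_el σ
  have hg : toCo0 g = mo m Q := hcσ
  have key : ∀ i : GolayPt, toCo0 g • e8 i = e8 i →
      (el Q : Equiv.Perm GolayPt) i = i ∧ m.testBit (idx i) = false := by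
    intro i hi
    have h1 := congrArg (fun x : leechLattice => (x : GolayPt → ℤ) i) hi
    change ((toCo0 g • e8 i : leechLattice) : GolayPt → ℤ) i = ((e8 i : leechLattice) : GolayPt → ℤ) i at h1
    rw [hg, mo_smul_e8 hm, e8_coe, Pi.single_eq_same] at h1
    by_cases h2 : (el Q : Equiv.Perm GolayPt) i = i
    · refine ⟨h2, ?_⟩
      rw [if_pos h2] at h1
      by_contra h3
      rw [Bool.not_eq_false] at h3
      rw [if_pos h3] at h1
      norm_num at h1
    · rw [if_neg h2] at h1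
      norm_num at h1
  obtain ⟨k1, k2⟩ := key none h
  obtain ⟨k3, k4⟩ := key (some 0) h0
  have hp := (ok_iff.1 hQ).1
  have e23 : papp Q 23 = 23 := by
    have h1 := congrArg idx k1
    rw [coe_el hQ, idx_permOf] at h1
    exact h1
  have e0 : papp Q 0 = 0 := by
    have h1 := congrArg idx k3
    rw [coe_el hQ, idx_permOf] at h1
    exact h1
  have hP : okP Q = true := okP_iff.2 ⟨hQ, Or.inl ⟨e0, e23⟩⟩
  have hE : inE m = true := inE_iff.2 ⟨hm, k4, k2⟩
  refine ⟨m, Q, hE, hP, hlt, e0, e23, ?_⟩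
  apply toCo0_injective
  rw [hg, toCo0_mo2 hE hP]

/-! ### permutations preserving the octad and fixing two points -/

/-- the mask of the octad `O` -/
def mO : ℕ := 13370381

theorem mO_eq : mO = Nat.xor 16777215 mz := by decide

/-- the octad `O` -/
def O : Finset GolayPt := fin mO

theorem O_mem : O ∈ octads := by
  apply Cfsg.Agent.SporadicStructure.M24Frame.fin_mem_octads_of_isOct
  decide +kernel

/-- `σ` preserves `O` and fixes the points of the list `l` (indices). -/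
def Fx (l : List ℕ) (σ : M24) : Prop :=
  (∀ p ∈ O, (σ : Equiv.Perm GolayPt) p ∈ O) ∧ ∀ i ∈ l, (σ : Equiv.Perm GolayPt) (pt i) = pt i

theorem Fx.mul {l : List ℕ} {σ τ : M24} (h1 : Fx l σ) (h2 : Fx l τ) : Fx l (σ * τ) :=
  ⟨fun p hp => h1.1 _ (h2.1 p hp), fun i hi => by
    show (σ : Equiv.Perm GolayPt) ((τ : Equiv.Perm GolayPt) (pt i)) = _
    rw [h2.2 i hi, h1.2 i hi]⟩

theorem Fx.inv {l : List ℕ} {σ : M24} (h : Fx l σ) : Fx l σ⁻¹ := by
  refine ⟨fun p hp => ?_, fun i hi => ?_⟩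
  · have h1 : O.image (σ : Equiv.Perm GolayPt) = O := by
      apply Finset.eq_of_subset_of_card_le
      · intro q hq
        obtain ⟨r, hr, rfl⟩ := Finset.mem_image.1 hq
        exact h.1 r hr
      · rw [Finset.card_image_of_injective _ (σ : Equiv.Perm GolayPt).injective]
    rw [← h1] at hp
    obtain ⟨r, hr, rfl⟩ := Finset.mem_image.1 hp
    show (σ : Equiv.Perm GolayPt).symm _ ∈ O
    rw [Equiv.symm_apply_apply]
    exact hr
  · show (σ : Equiv.Perm GolayPt)⁻¹ (pt i) = pt i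
    rw [Equiv.Perm.inv_eq_iff_eq, h.2 i hi]

/-- test for a packed permutation: in `M24`, preserves the octad, fixes `l` -/
def fxB (l : List ℕ) (Q : ℕ) : Bool :=
  ok Q && Nat.beq (pimg Q mO) mO && l.all fun i => Nat.blt i 24 && Nat.beq (papp Q i) i

theorem fx_of {l : List ℕ} {Q : ℕ} (h : fxB l Q = true) : ok Q = true ∧ Fx l (el Q) := by
  unfold fxB at h
  rw [Bool.and_eq_true, Bool.and_eq_true, List.all_eq_true] at h
  obtain ⟨⟨h1, h2⟩, h3⟩ := h
  refine ⟨h1, fun p hp => ?_, fun i hi => ?_⟩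
  · rw [coe_el h1]
    have h4 := smul_fin (ok_iff.1 h1).1 mO
    rw [Nat.eq_of_beq_eq_true h2] at h4
    have h5 : (permOf Q (ok_iff.1 h1).1) p ∈ (permOf Q (ok_iff.1 h1).1) • fin mO := (mem_smul_iff _ _ _).2 hp
    rw [h4] at h5
    exact h5
  · have h4 := h3 i hi
    rw [Bool.and_eq_true, Nat.blt_eq] at h4
    rw [coe_el h1]
    apply idx_injective
    rw [idx_permOf, idx_pt h4.1]
    exact Nat.eq_of_beq_eq_true h4.2

/-- test for a transversal: `(u, x, y)` -/
def trB (l l0 : List ℕ) (a : ℕ) (A : List ℕ) (U : List (ℕ × ℕ × ℕ)) : Bool :=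
  (U.all fun t => fxB l t.1 && fxB l0 t.2.1 && fxB l0 t.2.2 &&
    Nat.beq (pcomp t.1 (pcomp t.2.2 t.2.1)) (pcomp t.2.1 t.2.2)) &&
  A.all fun b => Nat.beq b a || U.any fun t => Nat.beq (papp t.1 a) b

open scoped commutatorElement in
/-- One level. -/
theorem level {H : Subgroup M24} {l0 : List ℕ} (hH : ∀ σ τ : M24, Fx l0 σ → Fx l0 τ → ⁅σ, τ⁆ ∈ H)
    {l : List ℕ} {a : ℕ} (ha : a < 24) {A : List ℕ} {U : List (ℕ × ℕ × ℕ)} (h : trB l l0 a A U = true)
    (hA : ∀ σ : M24, Fx l σ → idx ((σ : Equiv.Perm GolayPt) (pt a)) ∈ A)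
    (hr : ∀ σ : M24, Fx (a :: l) σ → σ ∈ H) : ∀ σ : M24, Fx l σ → σ ∈ H := by
  intro σ hσ
  unfold trB at h
  rw [Bool.and_eq_true, List.all_eq_true, List.all_eq_true] at h
  obtain ⟨h1, h2⟩ := h
  have h3 := h2 _ (hA σ hσ)
  rw [Bool.or_eq_true, List.any_eq_true] at h3
  rcases h3 with h3 | ⟨t, ht, h3⟩
  · apply hr
    refine ⟨hσ.1, fun i hi => ?_⟩
    rcases List.mem_cons.1 hi with rfl | hi
    · apply idx_injective
      rw [Nat.eq_of_beq_eq_true h3, idx_pt ha]
    · exact hσ.2 i hi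
  · have h4 := h1 t ht
    rw [Bool.and_eq_true, Bool.and_eq_true, Bool.and_eq_true] at h4
    obtain ⟨⟨⟨h5, h6⟩, h7⟩, h8⟩ := h4
    obtain ⟨o1, f1⟩ := fx_of h5
    obtain ⟨o2, f2⟩ := fx_of h6
    obtain ⟨o3, f3⟩ := fx_of h7
    have h9 : el t.1 = ⁅el t.2.1, el t.2.2⁆ := by
      have h10 := congrArg el (Nat.eq_of_beq_eq_true h8)
      rw [el_pcomp o1 (ok_pcomp o3 o2), el_pcomp o3 o2, el_pcomp o2 o3] at h10
      rw [commutatorElement_def, ← mul_assoc] at *
      rw [eq_mul_inv_iff_mul_eq, eq_mul_inv_iff_mul_eq]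
      simpa [mul_assoc] using h10
    have h10 : el t.1 ∈ H := by rw [h9]; exact hH _ _ f2 f3
    have h11 : (el t.1)⁻¹ * σ ∈ H := by
      apply hr
      refine ⟨(f1.inv.mul hσ).1, fun i hi => ?_⟩
      rcases List.mem_cons.1 hi with rfl | hi
      · show (el t.1 : Equiv.Perm GolayPt)⁻¹ ((σ : Equiv.Perm GolayPt) (pt i)) = pt i
        rw [Equiv.Perm.inv_eq_iff_eq]
        apply idx_injective
        rw [coe_el o1, idx_permOf, idx_pt ha]
        exact (Nat.eq_of_beq_eq_true h3).symm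
      · exact (f1.inv.mul hσ).2 i hi
    have := H.mul_mem h10 h11
    rwa [mul_inv_cancel_left] at this

end Cfsg.Agent.KFacts.CoTwo.Base
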