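import Cfsg.Agent.KFacts.CoTwo.Main
import Cfsg.Agent.BabyM.GroupInst

/-!
# Every automorphism of the group `Co₂` of the model of the Baby Monster is inner (helper630)

`inner` is `KFacts.Baby.Sheet.Inner` (unfolded).
-/

set_option autoImplicit false

namespace Cfsg.Agent.KFacts.CoTwo.InnerB

open Cfsg Cfsg.Agent.BabyM

/-- **Every automorphism of the stabiliser of a minimal vector is inner.** -/
theorem inner (α : MulAut GroupInst.K₀) : ∃ g : GroupInst.K₀, α = MulAut.conj g := by
  obtain ⟨e⟩ := Cfsg.Agent.Schreier.CoTwoStab.exists_equiv _ GroupInst.dt_l₀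
  exact Main.allInner_iso e α

end Cfsg.Agent.KFacts.CoTwo.InnerB
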