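import Cfsg.Agent.KFacts.CoTwo.Base

/-!
# The centraliser `P` of the central involution of `Spor.Co2`; its monomial part is in `⁅P, P⁆` (helper902)

`mono_mem`: an element of `P` fixing `8 e_∞` is in `⁅P, P⁆`.
-/

set_option autoImplicit false
set_option linter.dupNamespace false

namespace Cfsg.Agent.KFacts.CoTwo.MPerf

open Cfsg Cfsg.Agent.SporadicA.GolayBase Cfsg.Agent.SporadicA.GolayPerm
open Cfsg.Agent.SporadicStructure.M24El Cfsg.Agent.SporadicA.Co0Mono
open Cfsg.Agent.Co2Type.Mono Cfsg.Agent.Co2Type.TGroup Cfsg.Agent.Co2Type.TData Cfsg.Agent.Co2Type.FactsD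
open Cfsg.Agent.Co2Type.TCard
open Cfsg.Agent.SporadicStructure.Co0Base (e8 e8_coe)
open Cfsg.Agent.KFacts.CoTwo.Base Cfsg.Agent.KFacts.CoTwo.Data
open scoped Pointwise commutatorElement

/-- The centraliser of the central involution. -/
def P : Subgroup Spor.Co2 := Subgroup.centralizer {ge mz}

theorem mem_P {g : Spor.Co2} : g ∈ P ↔ g * ge mz = ge mz * g := Subgroup.mem_centralizer_singleton_iff

theorem mo2_mem_P {m Q : ℕ} (hm : inE m = true) (hQ : okP Q = true) (hlt : Q < 2 ^ 120) :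
    mo2 m Q ∈ P ↔ pimg Q mz = mz := by
  rw [mem_P]
  exact comm_E_iff hm iz hQ hlt

theorem ge_mem_P {m : ℕ} (hm : inE m = true) : ge m ∈ P :=
  (mo2_mem_P hm okP_idP idP_lt).2 (by decide +kernel)

theorem T_le_P : T ≤ P := fun t ht => mem_P.2 (z_comm t ht)

/-- the commutator subgroup of `P` -/
def D : Subgroup Spor.Co2 := ⁅P, P⁆

theorem comm_mem_D {x y : Spor.Co2} (hx : x ∈ P) (hy : y ∈ P) : ⁅x, y⁆ ∈ D := Subgroup.commutator_mem_commutator hx hy

theorem D_le : D ≤ P := Subgroup.commutator_le_self P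

theorem D_conj {g d : Spor.Co2} (hg : g ∈ P) (hd : d ∈ D) : g * d * g⁻¹ ∈ D := by
  have h1 : ⁅g, d⁆ ∈ D := comm_mem_D hg (D_le hd)
  have h2 := D.mul_mem h1 hd
  rw [commutatorElement_def, inv_mul_cancel_right] at h2
  exact h2

theorem D_conj_iff {g d : Spor.Co2} (hg : g ∈ P) : g * d * g⁻¹ ∈ D ↔ d ∈ D := by
  constructor
  · intro h
    have := D_conj (P.inv_mem hg) h
    have e : g⁻¹ * (g * d * g⁻¹) * g⁻¹⁻¹ = d := by group
    rwa [e] at this
  · exact D_conj hg

/-! ### masks -/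

theorem mem_of_sp {H : Subgroup Spor.Co2} : ∀ {l : List ℕ}, (∀ b ∈ l, inE b = true ∧ ge b ∈ H) →
    ∀ {m : ℕ}, inE m = true → Sp l m → ge m ∈ H := by
  intro l
  induction l with
  | nil =>
    intro _ m _ h
    have h' : m = 0 := h
    rw [h', ge_zero]; exact H.one_mem
  | cons b l ih =>
    intro hl m hm h
    obtain ⟨hb, hb'⟩ := hl b List.mem_cons_self
    rcases h with h | h
    · exact ih (fun c hc => hl c (List.mem_cons_of_mem _ hc)) hm h
    · have h1 := ih (fun c hc => hl c (List.mem_cons_of_mem _ hc)) (inE_xor hm hb) h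
      have h2 := H.mul_mem h1 hb'
      rw [ge_mul (inE_xor hm hb) hb, Nat.xor_assoc, Nat.xor_self, Nat.xor_zero] at h2
      exact h2

/-- `[ge n, π_Q] = ge (n + Q n)` -/
theorem comm_ge {n Q : ℕ} (hn : inE n = true) (hQ : okP Q = true) (hlt : Q < 2 ^ 120) :
    ⁅ge n, mo2 0 Q⁆ = ge (n ^^^ pimg Q n) := by
  have h1 : mo2 0 Q * ge n * (mo2 0 Q)⁻¹ = ge (pimg Q n) := conj_ge hQ hlt hn rfl
  rw [← ge_mul hn (inE_pimg hQ hn), ← h1, commutatorElement_def]
  have h2 : (ge n)⁻¹ = ge n := inv_eq_of_mul_eq_one_left (ge_sq hn)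
  rw [h2]; group

/-- test -/
def enB (t : ℕ × ℕ × ℕ) : Bool :=
  inE t.2.1 && okP t.2.2 && Nat.blt t.2.2 (2 ^ 120) && Nat.beq (pimg t.2.2 mz) mz &&
    Nat.beq (Nat.xor t.2.1 (pimg t.2.2 t.2.1)) t.1

theorem chkEN : EN.all enB = true := by decide +kernel

theorem EN_fst : EN.map (fun t => t.1) = B10 := by decide +kernel

theorem chkB : (B10.all inE) = true := by decide +kernel

theorem ge_mem_D {m : ℕ} (hm : inE m = true) : ge m ∈ D := by
  refine mem_of_sp (l := B10) (fun b hb => ⟨List.all_eq_true.1 chkB b hb, ?_⟩) hm (sp_B10 hm)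
  rw [← EN_fst] at hb
  obtain ⟨t, ht, rfl⟩ := List.mem_map.1 hb
  have h := List.all_eq_true.1 chkEN t ht
  unfold enB at h
  simp only [Bool.and_eq_true] at h
  obtain ⟨⟨⟨⟨h1, h2⟩, h3⟩, h4⟩, h5⟩ := h
  rw [Nat.blt_eq] at h3
  have h6 := comm_ge h1 h2 h3
  have h7 : t.2.1 ^^^ pimg t.2.2 t.2.1 = t.1 := Nat.eq_of_beq_eq_true h5
  rw [h7] at h6
  rw [← h6]
  exact comm_mem_D (ge_mem_P h1) ((mo2_mem_P inE_zero h2 h3).2 (Nat.eq_of_beq_eq_true h4))

/-! ### permutations -/

theorem pimg_mO_iff {Q : ℕ} (hQ : isPerm Q = true) : pimg Q mO = mO ↔ pimg Q mz = mz := by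
  have h1 : pimg Q 16777215 = 16777215 := Nat.eq_of_beq_eq_true hQ
  have e1 : (16777215 : ℕ) ^^^ mO = mz := by decide
  have e2 : (16777215 : ℕ) ^^^ mz = mO := by decide
  constructor
  · intro h
    rw [← e1, pimg_xor hQ, h1, h]
  · intro h
    rw [← e2, pimg_xor hQ, h1, h]

theorem fx_pimg {l : List ℕ} {Q : ℕ} (hQ : ok Q = true) (h : Fx l (el Q)) : pimg Q mO = mO := by
  have hp := (ok_iff.1 hQ).1
  apply fin_injective (pimg_lt hp _) (by decide)
  rw [← smul_fin hp]
  apply Finset.eq_of_subset_of_card_le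
  · intro p hp'
    rw [smul_finset_eq_map, Finset.mem_map] at hp'
    obtain ⟨q, hq, rfl⟩ := hp'
    have := h.1 q hq
    rw [coe_el hQ] at this
    exact this
  · rw [Finset.card_smul_finset]

theorem exists_packed {σ : M24} (h : Fx [0, 23] σ) : ∃ Q, okP Q = true ∧ Q < 2 ^ 120 ∧ papp Q 0 = 0 ∧
    papp Q 23 = 23 ∧ pimg Q mz = mz ∧ el Q = σ := by
  obtain ⟨Q, hQ, hlt, rfl⟩ := exists_el σ
  have hp := (ok_iff.1 hQ).1
  have key : ∀ i ∈ [0, 23], papp Q i = i := by
    intro i hi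
    have hi' : i < 24 := by
      simp only [List.mem_cons, List.not_mem_nil, or_false] at hi
      omega
    have h1 := congrArg idx (h.2 i hi)
    rwa [coe_el hQ, idx_permOf, idx_pt hi'] at h1
  have h0 := key 0 (by simp)
  have h23 := key 23 (by simp)
  exact ⟨Q, okP_iff.2 ⟨hQ, Or.inl ⟨h0, h23⟩⟩, hlt, h0, h23, (pimg_mO_iff hp).1 (fx_pimg hQ h), rfl⟩

/-- the permutations in `D` -/
noncomputable def HD : Subgroup M24 := (D.map toCo0).comap permCo0

theorem mo_zero {Q : ℕ} : mo 0 Q = permCo0 (el Q) := by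
  unfold mo
  rw [cd_zero, signCo0_zero, one_mul]

theorem toCo0_perm {Q : ℕ} (hQ : okP Q = true) : toCo0 (mo2 0 Q) = permCo0 (el Q) := by
  rw [toCo0_mo2 inE_zero hQ, mo_zero]

theorem comm_mem_HD (σ τ : M24) (h1 : Fx [0, 23] σ) (h2 : Fx [0, 23] τ) : ⁅σ, τ⁆ ∈ HD := by
  obtain ⟨Q, hQ, hlt, -, -, hz, rfl⟩ := exists_packed h1
  obtain ⟨R, hR, hlt', -, -, hz', rfl⟩ := exists_packed h2
  refine ⟨⁅mo2 0 Q, mo2 0 R⁆, comm_mem_D ((mo2_mem_P inE_zero hQ hlt).2 hz) ((mo2_mem_P inE_zero hR hlt').2 hz'), ?_⟩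
  rw [map_commutatorElement, map_commutatorElement, toCo0_perm hQ, toCo0_perm hR]

theorem mO_lt : mO < 2 ^ 24 := by decide

/-- possible images of a point of the octad -/
theorem img_mem {l : List ℕ} (hl : ∀ i ∈ l, i < 24) {a : ℕ} (ha : a < 24) (hO : mO.testBit a = true) (hal : a ∉ l)
    {σ : M24} (h : Fx l σ) : idx ((σ : Equiv.Perm GolayPt) (pt a)) ∈
      (List.range 24).filter fun b => mO.testBit b && !(l.contains b) := by
  have h1 : (σ : Equiv.Perm GolayPt) (pt a) ∈ O := h.1 _ (mem_fin.2 (by rw [idx_pt ha]; exact hO))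
  rw [List.mem_filter]
  refine ⟨List.mem_range.2 (idx_lt _), ?_⟩
  rw [Bool.and_eq_true]
  refine ⟨mem_fin.1 h1, ?_⟩
  rw [Bool.not_eq_true', List.contains_eq_mem, decide_eq_false_iff_not]
  intro hc
  have h2 := h.2 _ hc
  rw [pt_idx] at h2
  have h3 := (σ : Equiv.Perm GolayPt).injective h2
  rw [h3, idx_pt ha] at hc
  exact hal hc

/-- possible images of a point outside -/
theorem img_mem' {l : List ℕ} {a : ℕ} (ha : a < 24) (hO : mO.testBit a = false)
    {σ : M24} (h : Fx l σ) : idx ((σ : Equiv.Perm GolayPt) (pt a)) ∈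
      (List.range 24).filter fun b => !(mO.testBit b) := by
  have h1 : (σ : Equiv.Perm GolayPt) (pt a) ∉ O := by
    intro hc
    have h2 := h.inv.1 _ hc
    have h3 : ((σ⁻¹ : M24) : Equiv.Perm GolayPt) ((σ : Equiv.Perm GolayPt) (pt a)) = pt a := by
      show (σ : Equiv.Perm GolayPt).symm _ = _
      rw [Equiv.symm_apply_apply]
    rw [h3] at h2
    have := mem_fin.1 h2
    rw [idx_pt ha, hO] at this
    exact Bool.noConfusion this
  rw [List.mem_filter]
  refine ⟨List.mem_range.2 (idx_lt _), ?_⟩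
  rw [Bool.not_eq_true']
  by_contra hc
  rw [Bool.not_eq_false] at hc
  exact h1 (mem_fin.2 hc)

/-- the last level: six points of the octad and a point outside fixed -/
theorem last (σ : M24) (h : Fx [1, 18, 10, 3, 2, 0, 23] σ) : σ ∈ HD := by
  have h1 : (σ : Equiv.Perm GolayPt) = 1 := by
    refine Cfsg.Agent.SporadicStructure.M24Frame.eq_one_of_fix_frame σ.2 O_mem
      (s := {pt 18, pt 10, pt 3, pt 2, pt 0, pt 23}) ?_ ?_ ?_ (p := pt 1) ?_ (h.2 1 (by simp))
    · unfold O; decide +kernel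
    · decide +kernel
    · intro z hz
      simp only [Finset.mem_insert, Finset.mem_singleton] at hz
      rcases hz with rfl | rfl | rfl | rfl | rfl | rfl
      · exact h.2 18 (by simp)
      · exact h.2 10 (by simp)
      · exact h.2 3 (by simp)
      · exact h.2 2 (by simp)
      · exact h.2 0 (by simp)
      · exact h.2 23 (by simp)
    · unfold O; decide +kernel
  have h2 : σ = 1 := Subtype.ext h1
  rw [h2]; exact HD.one_mem

theorem chk0 : trB [0, 23] [0, 23] 2 ((List.range 24).filter fun b => mO.testBit b && !([0, 23].contains b)) U0 = true := by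
  decide +kernel

theorem chk1 : trB [2, 0, 23] [0, 23] 3
    ((List.range 24).filter fun b => mO.testBit b && !([2, 0, 23].contains b)) U1 = true := by
  decide +kernel

theorem chk2 : trB [3, 2, 0, 23] [0, 23] 10
    ((List.range 24).filter fun b => mO.testBit b && !([3, 2, 0, 23].contains b)) U2 = true := by
  decide +kernel

theorem chk3 : trB [10, 3, 2, 0, 23] [0, 23] 18
    ((List.range 24).filter fun b => mO.testBit b && !([10, 3, 2, 0, 23].contains b)) U3 = true := by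
  decide +kernel

theorem chk4 : trB [18, 10, 3, 2, 0, 23] [0, 23] 1
    ((List.range 24).filter fun b => !(mO.testBit b)) U4 = true := by
  decide +kernel

theorem perm_mem (σ : M24) (h : Fx [0, 23] σ) : permCo0 σ ∈ D.map toCo0 := by
  have hl : ∀ i ∈ [10, 3, 2, 0, 23], i < 24 := by decide
  have l4 : ∀ σ : M24, Fx [18, 10, 3, 2, 0, 23] σ → σ ∈ HD :=
    level comm_mem_HD (by norm_num) chk4 (fun σ h => img_mem' (by norm_num) (by decide) h) last
  have l3 : ∀ σ : M24, Fx [10, 3, 2, 0, 23] σ → σ ∈ HD :=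
    level comm_mem_HD (by norm_num) chk3
      (fun σ h => img_mem (by decide) (by norm_num) (by decide) (by decide) h) l4
  have l2 : ∀ σ : M24, Fx [3, 2, 0, 23] σ → σ ∈ HD :=
    level comm_mem_HD (by norm_num) chk2
      (fun σ h => img_mem (by decide) (by norm_num) (by decide) (by decide) h) l3
  have l1 : ∀ σ : M24, Fx [2, 0, 23] σ → σ ∈ HD :=
    level comm_mem_HD (by norm_num) chk1
      (fun σ h => img_mem (by decide) (by norm_num) (by decide) (by decide) h) l2
  exact level comm_mem_HD (by norm_num) chk0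
    (fun σ h => img_mem (by decide) (by norm_num) (by decide) (by decide) h) l1 σ h

/-- **The monomial part of `P` is in the commutator subgroup.** -/
theorem mono_mem {g : Spor.Co2} (hg : g ∈ P) (h : toCo0 g • e8 none = e8 none) : g ∈ D := by
  obtain ⟨m, Q, hm, hQ, hlt, h0, h23, rfl⟩ := mono_of_fix h
  have hz := (mo2_mem_P hm hQ hlt).1 hg
  have hok := ok_of_okP hQ
  have hF : Fx [0, 23] (el Q) := by
    refine (fx_of (l := [0, 23]) ?_).2
    unfold fxB
    rw [Bool.and_eq_true, Bool.and_eq_true]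
    refine ⟨⟨hok, ?_⟩, ?_⟩
    · rw [(pimg_mO_iff (ok_iff.1 hok).1).2 hz]; exact Nat.beq_refl _
    · simp [h0, h23]
  obtain ⟨d, hd, hd'⟩ := perm_mem _ hF
  have h1 : d = mo2 0 Q := by
    apply toCo0_injective
    rw [hd', toCo0_perm hQ]
  have h2 : mo2 m Q = ge m * mo2 0 Q := by
    unfold ge
    rw [mo2_mul_left hm inE_zero hQ, Nat.xor_zero]
  rw [h2]
  exact D.mul_mem (ge_mem_D hm) (h1 ▸ hd)

end Cfsg.Agent.KFacts.CoTwo.MPerf
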