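import Cfsg.Agent.LargeExtra.Nine.SpCo
import Cfsg.Agent.LargeExtra.NineUnitary.Final
import Cfsg.Agent.StandardComponent.SpTwoAut
import Cfsg.Agent.S0270
import Cfsg.Agent.S0280
import Cfsg.Agent.KFacts.SheetInnerT

/-!
# `C_K(z)/Q ≃ Sp₆(2)` for a finite simple group `K` with a weakly closed large extraspecial `Q` of order `2⁹`

`K` finite simple with `Large Q z`, `|Q| = 2 ^ 9`, `O₂(C_K(z)) ≤ Q`, `z^K ∩ Q = {z}`, some conjugate `≠ z` of `z` in
`C_K(z)`, and `|K| ≠ |PSU(6, 2)|` (case I of S1763).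

* `quot` : `C_K(z) → Sp₆(2)` onto with kernel `Q`;
* `fix`  : the stabiliser of some vector of `Q/⟨z⟩` fixes no other vector.
-/

set_option autoImplicit false

namespace Cfsg.Agent.KFacts.CoTwo.Quot

open Cfsg.Agent.Co2Type.Quad Cfsg.Agent.LargeExtra.Base Cfsg.Agent.KFacts.AutLarge
open Cfsg.Agent.LargeExtra.Nine Cfsg.Agent.LargeExtra.Nine.UTree
  Cfsg.Agent.LargeExtra.Nine.UCode Cfsg.Agent.LargeExtra.Nine.UEnum Cfsg.Agent.LargeExtra.Nine.UCoord
  Cfsg.Agent.LargeExtra.Nine.UBridge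

/-- the symplectic group -/
abbrev Sp62 : Type := Matrix.symplecticGroup (Fin 3) (ZMod 2)

variable {K : Type*} [Group K] [Finite K] [IsSimpleGroup K] {Q : Subgroup K} {z : K}

/-- The hypotheses. -/
structure Hyp {K : Type*} [Group K] (Q : Subgroup K) (z : K) : Prop where
  large : Large Q z
  card : Nat.card Q = 2 ^ 9
  o2 : ∀ N : Subgroup (Subgroup.centralizer ({z} : Set K)), N.Normal → IsPGroup 2 N →
    ∀ x ∈ N, (x : K) ∈ Q
  wc : ∀ g : K, g * z * g⁻¹ ∈ Q → g * z * g⁻¹ = z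
  ex : ∃ g : K, g * z * g⁻¹ ≠ z ∧ g * z * g⁻¹ * z = z * (g * z * g⁻¹)
  order : Nat.card K ≠ 9196830720
  nonab : ∃ a b : K, a * b ≠ b * a

theorem card_PSU {F : Type} [Field F] [Fintype F] (hF : Fintype.card F = 4) :
    Nat.card (Cfsg.PSU 6 F 2) = 9196830720 := by
  have h := Cfsg.Agent.S0280.result (F := F) (q := 2) (by rw [hF]; norm_num) 6 (by norm_num)
  have e1 : Nat.gcd 6 (2 + 1) = 3 := by decide
  have e2 : (2 : ℕ) ^ (6 * (6 - 1) / 2) * ∏ i ∈ Finset.range 6,
      (if Even i then 2 ^ (i + 1) + 1 else 2 ^ (i + 1) - 1) = 82771476480 := by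
    simp only [Finset.prod_range_succ, Finset.prod_range_zero]
    rw [if_pos (by decide), if_neg (by decide), if_pos (by decide), if_neg (by decide),
      if_pos (by decide), if_neg (by decide)]
    norm_num
  rw [e1, e2] at h
  omega

theorem exists_co (H : Hyp Q z) : ∃ φ : Coord H.large, USet (MM φ) (UU φ) ∧
    ∀ u v, UU φ u v ↔ cl u v ∈ lines T45 ∨ cl u v ∈ lines TA4 := by
  have h := H.large
  have h9 := H.card
  have hidx := Cfsg.Agent.LargeExtra.WCIrr.index_ne_two H.nonab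
  have hc : Nat.card h.V = 256 := by
    have h1 := h.card_eq
    omega
  have I := Cfsg.Agent.LargeExtra.WCIrr.uinput H.large (by omega)
    (Cfsg.Agent.LargeExtra.WCIrr.noRefl_of_index H.large (by omega) hidx) H.wc H.o2 H.ex
  obtain ⟨φ, t, -, hU, hUU⟩ := UCoord.exists_coord hc I
  refine ⟨φ, hU, ?_⟩
  rcases hUU with h1 | h1
  · exfalso
    obtain ⟨F, i1, i2, hF, ⟨e⟩⟩ := Cfsg.Agent.LargeExtra.NineUnitary.Final.isoPSU6 (fun hG => by
      obtain ⟨a, b, hab⟩ := H.nonab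
      exact hab (hG.is_comm.comm a b)) H.large h9 H.o2 H.wc H.ex φ h1
    apply H.order
    rw [Nat.card_congr e.toEquiv]
    exact card_PSU hF
  · exact h1

theorem quot (H : Hyp Q z) : ∃ π : Subgroup.centralizer ({z} : Set K) →* Sp62,
    Function.Surjective π ∧ ∀ c, π c = 1 ↔ (c : K) ∈ Q := by
  obtain ⟨φ, hU, hUU⟩ := exists_co H
  obtain ⟨e⟩ := (SpCo.hyp φ hU hUU).nonempty_sp
  refine ⟨e.toMonoidHom.comp H.large.act.rangeRestrict,
    e.surjective.comp H.large.act.rangeRestrict_surjective, fun c => ?_⟩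
  show e (H.large.act.rangeRestrict c) = 1 ↔ _
  rw [EmbeddingLike.map_eq_one_iff]
  constructor
  · intro h1
    exact H.large.mem_of_act c (congrArg Subtype.val h1)
  · intro h1
    exact Subtype.ext (H.large.act_mem c h1)

theorem chk : ∀ n < 256, (∀ m ∈ [1, 2, 6, 9, 66, 131, 4, 33], bc n m = false) → n = 0 ∨ n = 1 := by
  decide +kernel

theorem fix (H : Hyp Q z) : ∃ x₀ ∈ Q, x₀ ≠ 1 ∧ x₀ ≠ z ∧
    ∀ y ∈ Q, (∀ c : K, c * z = z * c → Eqz z (c * x₀ * c⁻¹) x₀ → Eqz z (c * y * c⁻¹) y) →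
      Eqz z y 1 ∨ Eqz z y x₀ := by
  obtain ⟨φ, hU, hUU⟩ := exists_co H
  have h := H.large
  obtain ⟨x₀, hx₀⟩ := H.large.pr_surjective (sv φ 1)
  have h1 : sv φ 1 ≠ 0 := fun h0 => by
    have := sv_inj φ (m := 1) (n := 0) (by norm_num) (by norm_num) (by rw [h0, sv_zero])
    exact absurd this (by norm_num)
  have hp1 : H.large.pr (1 : Q) = 0 := by
    have h2 := H.large.pr_mul (1 : Q) 1
    rw [mul_one] at h2
    exact left_eq_add.1 h2
  have hne : (x₀ : K) ≠ 1 := by
    intro h2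
    apply h1
    rw [← hx₀, show x₀ = 1 from Subtype.ext h2, hp1]
  have hnz : (x₀ : K) ≠ z := by
    intro h2
    apply h1
    rw [← hx₀, ← hp1, H.large.pr_eq_pr]
    right
    rw [h2, OneMemClass.coe_one, one_mul]
  refine ⟨x₀, x₀.2, hne, hnz, fun y hy hyc => ?_⟩
  obtain ⟨n, hn, hyn⟩ := exists_sv φ (H.large.pr ⟨y, hy⟩)
  -- the lines
  have key : ∀ u v : ℕ, cl u v ∈ lines T45 ∨ cl u v ∈ lines TA4 → bc 1 u = false → bc 1 v = false →
      bc n u = false ∧ bc n v = false := by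
    intro u v huv hu0 hv0
    obtain ⟨hu, hv, s, hs⟩ := (hUU u v).2 huv
    obtain ⟨hsz, hact0⟩ := hs.act
    have hact : ∀ x, H.large.act ⟨s, hsz⟩ x = x + H.large.b x (sv φ u) • sv φ v + H.large.b x (sv φ v) • sv φ u := hact0
    have hsz' := Subgroup.mem_centralizer_singleton_iff.1 hsz
    have hconj : ∀ x : Q, H.large.act ⟨s, hsz⟩ (H.large.pr x) =
        H.large.pr ⟨s * x * s⁻¹, H.large.conj_mem s hsz' x x.2⟩ := fun x => H.large.act_pr _ _
    have e1 : Eqz z (s * x₀ * s⁻¹) x₀ := by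
      rw [eqz_iff H.large (H.large.conj_mem s hsz' x₀ x₀.2) x₀.2, ← hconj, hact]
      rw [show (⟨(x₀ : K), x₀.2⟩ : Q) = x₀ from rfl, hx₀, b_sv φ (by norm_num) hu, b_sv φ (by norm_num) hv, hu0,
        hv0]
      simp
    have e2 := hyc s hsz' e1
    rw [eqz_iff H.large (H.large.conj_mem s hsz' y hy) hy] at e2
    have e3 := hconj ⟨y, hy⟩
    rw [hact, hyn] at e3
    rw [show (⟨s * ((⟨y, hy⟩ : Q) : K) * s⁻¹, H.large.conj_mem s hsz' y hy⟩ : Q) =
      ⟨s * y * s⁻¹, H.large.conj_mem s hsz' y hy⟩ from rfl, e2, hyn, b_sv φ hn hu, b_sv φ hn hv, add_assoc] at e3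
    have e4 := add_eq_left.1 e3
    cases hnu : bc n u <;> cases hnv : bc n v
    · exact ⟨rfl, rfl⟩
    · exfalso
      rw [hnu, hnv] at e4
      simp only [Bool.false_eq_true, if_false, if_true, zero_smul, one_smul, zero_add] at e4
      exact hs.u0 e4
    · exfalso
      rw [hnu, hnv] at e4
      simp only [Bool.false_eq_true, if_false, if_true, zero_smul, one_smul, add_zero] at e4
      exact hs.v0 e4
    · exfalso
      rw [hnu, hnv] at e4
      simp only [if_true, one_smul] at e4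
      apply hs.uv
      have e5 := H.large.add_self (sv φ u)
      rw [← e5] at e4
      exact (add_right_cancel e4).symm
  have c1 : cl 1 2 ∈ lines T45 ∨ cl 1 2 ∈ lines TA4 := by decide +kernel
  have c2 : cl 6 9 ∈ lines T45 ∨ cl 6 9 ∈ lines TA4 := by decide +kernel
  have c3 : cl 66 131 ∈ lines T45 ∨ cl 66 131 ∈ lines TA4 := by decide +kernel
  have c4 : cl 4 33 ∈ lines T45 ∨ cl 4 33 ∈ lines TA4 := by decide +kernel
  obtain ⟨k1, k2⟩ := key _ _ c1 (by decide) (by decide)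
  obtain ⟨k3, k4⟩ := key _ _ c2 (by decide) (by decide)
  obtain ⟨k5, k6⟩ := key _ _ c3 (by decide) (by decide)
  obtain ⟨k7, k8⟩ := key _ _ c4 (by decide) (by decide)
  rcases chk n hn (by
    intro m hm
    simp only [List.mem_cons, List.not_mem_nil, or_false] at hm
    rcases hm with rfl | rfl | rfl | rfl | rfl | rfl | rfl | rfl
    · exact k1
    · exact k2
    · exact k3
    · exact k4
    · exact k5
    · exact k6
    · exact k7
    · exact k8) with h5 | h5
  · left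
    rw [eqz_iff H.large hy Q.one_mem, hyn, h5, sv_zero]
    exact hp1.symm
  · right
    rw [eqz_iff H.large hy x₀.2, hyn, h5]
    exact hx₀.symm

instance simple : IsSimpleGroup Sp62 := by
  obtain ⟨e⟩ := Cfsg.Agent.StandardComponent.SpTwoAut.exists_equiv₀
  have : IsSimpleGroup (Cfsg.PSp 3 (ZMod 2)) := Cfsg.Agent.S0270.result 3 (by norm_num) (fun h => absurd h (by norm_num))
  exact e.symm.isSimpleGroup

theorem inner (α : MulAut Sp62) : ∃ g : Sp62, α = MulAut.conj g :=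
  Cfsg.Agent.StandardComponent.SpTwoAut.inner α

theorem sp_nonab : ∃ a b : Sp62, a * b ≠ b * a := by
  by_contra hcon
  push Not at hcon
  have h1 := Cfsg.Agent.StandardComponent.SpTwoAut.center_eq_bot
  have h2 : Subgroup.center Sp62 = ⊤ := by
    rw [eq_top_iff]
    intro x _
    rw [Subgroup.mem_center_iff]
    exact fun g => hcon g x
  rw [h2] at h1
  have h3 : (1 : Sp62) ≠ 1 := by
    obtain ⟨x, hx⟩ := exists_ne (1 : Sp62)
    have : x ∈ (⊤ : Subgroup Sp62) := Subgroup.mem_top x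
    rw [h1, Subgroup.mem_bot] at this
    exact absurd this hx
  exact h3 rfl

end Cfsg.Agent.KFacts.CoTwo.Quot
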