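import Cfsg.Agent.KFacts.CoTwo.RFin
import Cfsg.Agent.KFacts.CoTwo.Quot
import Cfsg.Agent.KFacts.Co2.T1
import Cfsg.Agent.Schreier.CoTwoStab

/-!
# `Spor.Co2`: the hypotheses of `KFacts.CoTwo.Quot` and of `KFacts.SheetInnerT`; all automorphisms are inner (helper902)
-/

set_option autoImplicit false

namespace Cfsg.Agent.KFacts.CoTwo.QuotInst

open Cfsg Cfsg.Agent.Co2Type.TData Cfsg.Agent.Co2Type.FactsD
open Cfsg.Agent.KFacts.CoTwo.RSub Cfsg.Agent.KFacts.CoTwo.RLarge Cfsg.Agent.KFacts.CoTwo.RIrr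
open Cfsg.Agent.KFacts.CoTwo.RFin

/-- `z` is the only conjugate of `z` in `R`. -/
theorem wc (g : Spor.Co2) (h : g * ge mz * g⁻¹ ∈ R) : g * ge mz * g⁻¹ = ge mz :=
  weakly h (isConj_iff.2 ⟨g, rfl⟩)

/-- `O₂(C(z)) ≤ R` -/
theorem o2 (N : Subgroup (Subgroup.centralizer ({ge mz} : Set Spor.Co2))) (hN : N.Normal)
    (h2 : IsPGroup 2 N) (x : Subgroup.centralizer ({ge mz} : Set Spor.Co2)) (hx : x ∈ N) :
    (x : Spor.Co2) ∈ R := by
  have h3 : N.map (Subgroup.centralizer ({ge mz} : Set Spor.Co2)).subtype ≤ R := by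
    apply le_R (h2.map _)
    · rintro w ⟨y, -, rfl⟩
      exact Subgroup.mem_centralizer_singleton_iff.1 y.2
    · rintro u hu w ⟨y, hy, rfl⟩
      exact ⟨⟨u, Subgroup.mem_centralizer_singleton_iff.2 hu⟩ * y *
        ⟨u, Subgroup.mem_centralizer_singleton_iff.2 hu⟩⁻¹, hN.conj_mem y hy _, rfl⟩
  exact h3 ⟨x, hx, rfl⟩

theorem nonab : ∃ a b : Spor.Co2, a * b ≠ b * a := by
  obtain ⟨a, -, b, -, h⟩ := hna
  exact ⟨a, b, h⟩

theorem ex : ∃ g : Spor.Co2, g * ge mz * g⁻¹ ≠ ge mz ∧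
    g * ge mz * g⁻¹ * ge mz = ge mz * (g * ge mz * g⁻¹) := by
  obtain ⟨k, -, h2, h3⟩ := exists_k
  exact ⟨k, fun e => h3 (by rw [e]; exact large.z_mem), h2⟩

theorem order : Nat.card Spor.Co2 ≠ 9196830720 := by
  rw [Cfsg.Agent.Schreier.CoTwoStab.card]
  norm_num

/-- the hypotheses of `KFacts.CoTwo.Quot` -/
theorem hyp : Quot.Hyp R (ge mz) where
  large := large
  card := card_R
  o2 := o2
  wc := wc
  ex := ex
  order := order
  nonab := nonab

/-- the hypotheses of `KFacts.SheetInnerT` -/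
theorem dataT : Cfsg.Agent.KFacts.SheetInnerT.DataT R (ge mz) Quot.Sp62 := by
  have := Cfsg.Agent.Schreier.CoTwoStab.finite
  have := Cfsg.Agent.Schreier.CoTwoStab.isSimpleGroup
  exact
    { large := large
      irr := irr
      odd := hodd
      simple := Quot.simple
      nonab := Quot.sp_nonab
      quot := Quot.quot hyp
      inner := Quot.inner
      t1 := Cfsg.Agent.KFacts.Co2.T1.t1
      fix := Quot.fix hyp
      out := by
        obtain ⟨k, -, h2, h3⟩ := exists_k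
        exact ⟨k, h2, h3⟩ }

/-- **every automorphism of `Spor.Co2` is inner** -/
theorem allInner (α : MulAut Spor.Co2) : ∃ k : Spor.Co2, α = MulAut.conj k := by
  have := Cfsg.Agent.Schreier.CoTwoStab.finite
  exact dataT.allInner α

/-- every automorphism of the centraliser of the central involution of `Spor.Co2` is inner -/
theorem innerCent (β : MulAut (Subgroup.centralizer ({ge mz} : Set Spor.Co2))) :
    ∃ p : Subgroup.centralizer ({ge mz} : Set Spor.Co2), β = MulAut.conj p := by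
  have := Cfsg.Agent.Schreier.CoTwoStab.finite
  exact dataT.innerCent β

end Cfsg.Agent.KFacts.CoTwo.QuotInst
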