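import Cfsg.Agent.KFacts.CoTwo.Base

/-!
# Data for `R = O₂(C(z))` in `Spor.Co2` (helper902)
-/

set_option autoImplicit false

namespace Cfsg.Agent.KFacts.CoTwo.RData

/-- the permutations fixing the octad `O` pointwise -/
def R16 : List ℕ := [
  984818244535754528103549039458486304,
  984595137648923788561440491536746848,
  984123571547119987159515244511988160,
  984778947275340660717821982278781344,
  984649647149968121315896139822762272,
  984231322269954045815289618422139072,
  984152727466544257491081215029119232,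
  984571052771685786531681076360874368,
  984469640424621770493152374929066624,
  984522881593772296139707057299359872,
  984404989996146640795157331214174720,
  983998074281752343943170086404197024,
  984439216841335364591954947081341408,
  984273154656616016941563778037811360,
  984194560199829098639614076839364832,
  984321324869319684017664638098442784]

/-- basis of the masks disjoint from `O` -/
def E5 : List ℕ := [
  31554,
  78514,
  168928,
  1084018,
  2141072]

/-- the masks disjoint from `O` -/
def S32 : List ℕ := [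
  0, 31554, 78514, 84464, 168928, 190626, 237906, 252432, 1084018, 1110320, 1161408, 1164162, 1186194, 1204944, 1256224, 1265762, 2141072, 2150610, 2201890, 2220640, 2242672, 2245426, 2296514, 2322816, 3154402, 3168928, 3216208, 3237906, 3322370, 3328320, 3375280, 3406834]

/-- permutations of the octad moving the mask 31554 to the 30 masks -/
def TL : List ℕ := [
  0xb8a3590cef8342b658ce2a0949a920,
  0xb89f5b0cd4740ec2a82d5a5119c880,
  0xbcde9959aca98eb28890a383150d00,
  0xbcc2e189706a4f1428a6ab094959e0,
  0xbd88954d8682cad78cf1ab91414820,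
  0xbd8f41498e5c11178c8da98a954c20,
  0xbc8e5b090132e2c70d24a42ad54de0,
  0xbd8ec92ab0724262cdeb8d10d18880,
  0xb88d19a82983cb4449c45b6a71d980,
  0xbd9c49892589d6c329f4ab42890e00,
  0xba98610e242bdd03da895a1b59c820,
  0xb88c5959d582e3424c2879d2d1a980,
  0xba98b9da157a686709a44442590ce0,
  0xb882f9c8e4751714d9a8642a61a8a0,
  0xb8da91497544586a4dc5240ef55820,
  0xb8c30159c6a1ea44a9af620b19c960,
  0xbcda9149105902638dcf8d685b2980,
  0xb8a299288672ea58590c6be871cc20,
  0xbcceb18914216ad759e60c22c54920,
  0xb8a8e54d303adb1a8cc5431e195880,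
  0xbc9eb54cd0a122848aa1694ec1d9c0,
  0xba88eb0d0d28606accf17a59414960,
  0xb88c9559740ba3568e087b0a49c8e0,
  0xbc9c9b4e04798e86a8255d59118a80,
  0xbc90f9a8816b935a09658b0d0b0ce0,
  0xbc9e79d8257193460a045d5b11a900,
  0xb89ecb0e254b9a124aab3c0c854e80,
  0xbd9661c907735f562a29204b014e80,
  0xb8924b48b00d4cf44d6e6c4ec50e80,
  0xba9861892143eb43ce116956eb4880]

/-- a permutation fixing `O` pointwise -/
def Q0 : ℕ := 984595137648923788561440491536746848

/-- permutations of the octad conjugating `Q0` to the 15 elements -/
def TL2 : List ℕ := [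
  0xb888954cb40a18dac8ee7c566b0e00,
  0xb8ca79c8d14548ba09cd6052fb2a00,
  0xbca2510e8f820ce4cc2bab487b2980,
  0xbcd0d1aa2e851e62d82baa4ec90880,
  0xbda25189b0591e1ac9c64313454ce0,
  0xb8e0b14ccf396a942a2e6928c95820,
  0xbc8e898ca43352ca8a21851cb559e0,
  0xbcdab549354323430e017b8e4158a0,
  0xbaa87b4d0b0d5cf2ca068b48c10d20,
  0xbcea418a0ba44c92a9070bdcd95980,
  0xbd92c94c918151538e817356f508c0,
  0xbd8d454ea44157108dcd61e09149e0,
  0xbcdb11da0743d740a926612ae148a0,
  0xba9cb9c8cf430874d8a1ab69110e00,
  0xbd9a814e0f89d74aa8ac338241c920]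

end Cfsg.Agent.KFacts.CoTwo.RData
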