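import Cfsg.Agent.KFacts.CoTwo.RIrr

/-!
# `Spor.Co2`: `O₂(C(z)) = R`, `2 ^ 18 ∣ |C(z)|` (helper902)
-/

set_option autoImplicit false

namespace Cfsg.Agent.KFacts.CoTwo.RFin

open Cfsg Cfsg.Agent.SporadicStructure.M24El Cfsg.Agent.SporadicA.GolayPerm Cfsg.Agent.Co2Type.Mono Cfsg.Agent.Co2Type.TGroup Cfsg.Agent.Co2Type.TData Cfsg.Agent.Co2Type.FactsD
open Cfsg.Agent.KFacts.CoTwo.MPerf Cfsg.Agent.KFacts.CoTwo.RSub Cfsg.Agent.KFacts.CoTwo.RLarge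
open Cfsg.Agent.KFacts.CoTwo.RIrr

/-- every normal 2-subgroup of `C(z)` is contained in `R` -/
theorem le_R {W : Subgroup Spor.Co2} (hW : IsPGroup 2 W) (hWz : ∀ w ∈ W, w * ge mz = ge mz * w)
    (hinv : ∀ u : Spor.Co2, u * ge mz = ge mz * u → ∀ w ∈ W, u * w * u⁻¹ ∈ W) : W ≤ R :=
  Cfsg.Agent.KFacts.LargeO2.le_of_normal large irr ⟨ge my, v_mem, v_ne_one, v_ne_z⟩ hW hWz hinv

theorem card_dvd : 2 ^ 18 ∣ Nat.card (Subgroup.centralizer ({ge mz} : Set Spor.Co2)) := by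
  rw [← Cfsg.Agent.Co2Type.TCard.card_T]
  exact Subgroup.card_dvd_of_le T_le_P

/-! ### an element of order 5 -/

/-- a permutation of order 5 preserving the octad -/
def Q5 : ℕ := 0xbcca81d9e7652b06c9648b92650820

theorem chkQ5 : (okP Q5 && Nat.blt Q5 (2 ^ 120) && Nat.beq (pimg Q5 mz) mz && !(Nat.beq Q5 idP) &&
    Nat.beq (pcomp Q5 (pcomp Q5 (pcomp Q5 (pcomp Q5 Q5)))) idP) = true := by decide +kernel

theorem mul_zero' {P Q : ℕ} (hP : okP P = true) (hQ : okP Q = true) : mo2 0 P * mo2 0 Q = mo2 0 (pcomp P Q) := by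
  rw [mo2_mul inE_zero inE_zero hP hQ, pimg_zero (ok_iff.1 (ok_of_okP hP)).1, Nat.xor_zero]

theorem orderOf_five : orderOf (mo2 0 Q5) = 5 := by
  have h := chkQ5
  simp only [Bool.and_eq_true, Nat.blt_eq, Bool.not_eq_true'] at h
  obtain ⟨⟨⟨⟨h1, h2⟩, -⟩, h4⟩, h5⟩ := h
  have : Fact (Nat.Prime 5) := ⟨by norm_num⟩
  refine orderOf_eq_prime ?_ ?_
  · have e1 : mo2 0 Q5 ^ 5 = mo2 0 Q5 * (mo2 0 Q5 * (mo2 0 Q5 * (mo2 0 Q5 * mo2 0 Q5))) := by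
      rw [pow_succ', pow_succ', pow_succ', pow_succ', pow_one]
    have p2 := okP_pcomp h1 h1
    have p3 := okP_pcomp h1 p2
    have p4 := okP_pcomp h1 p3
    rw [e1, mul_zero' h1 h1, mul_zero' h1 p2, mul_zero' h1 p3, mul_zero' h1 p4, Nat.eq_of_beq_eq_true h5, mo2_one]
  · intro hc
    have h6 := (mo2_inj inE_zero inE_zero h1 okP_idP h2 idP_lt (hc.trans mo2_one.symm)).2
    rw [h6, Nat.beq_refl] at h4
    exact Bool.noConfusion h4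

theorem five_dvd : 5 ∣ Nat.card (Subgroup.centralizer ({ge mz} : Set Spor.Co2)) := by
  have h := chkQ5
  simp only [Bool.and_eq_true, Nat.blt_eq, Bool.not_eq_true'] at h
  obtain ⟨⟨⟨⟨h1, h2⟩, h3⟩, -⟩, -⟩ := h
  have h6 : mo2 0 Q5 ∈ P := (mo2_mem_P inE_zero h1 h2).2 (Nat.eq_of_beq_eq_true h3)
  have h7 := Subgroup.orderOf_dvd_natCard P h6
  rwa [orderOf_five] at h7

end Cfsg.Agent.KFacts.CoTwo.RFin
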