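import Cfsg.Agent.KFacts.CoTwo.RLarge
import Cfsg.Agent.KFacts.LargeO2
import Cfsg.Agent.Co2Type.FactsClass

/-!
# `P = C(z)` acts irreducibly on `R/⟨z⟩` in `Spor.Co2`; the other facts for the sheet (helper902)

`irr : Irr R (ge mz)`; `v = ge my`; `DD`: elements of `P` whose common fixed points on `R/⟨z⟩` are `{1, v}`
(`hfix`, `hvD`); `hperf`, `hodd`, `hna`, `syl`.
-/

set_option autoImplicit false
set_option linter.dupNamespace false
set_option linter.unusedVariables false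
set_option linter.unusedSectionVars false

namespace Cfsg.Agent.KFacts.CoTwo.RIrr

open Cfsg Cfsg.Agent.SporadicA.GolayBase Cfsg.Agent.SporadicA.GolayPerm
open Cfsg.Agent.SporadicStructure.M24El Cfsg.Agent.SporadicA.Co0Mono
open Cfsg.Agent.Co2Type.Mono Cfsg.Agent.Co2Type.TGroup Cfsg.Agent.Co2Type.TData Cfsg.Agent.Co2Type.FactsD
open Cfsg.Agent.Co2Type.TCard
open Cfsg.Agent.SporadicStructure.Co0Base (e8 e8_coe)
open Cfsg.Agent.LeechMat.Elements (vec sdig)
open Cfsg.Agent.LeechMat.Orbit (Rep)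
open Cfsg.Agent.KFacts.CoTwo.Base Cfsg.Agent.KFacts.CoTwo.Data Cfsg.Agent.KFacts.CoTwo.MPerf
open Cfsg.Agent.KFacts.CoTwo.Perf Cfsg.Agent.KFacts.CoTwo.RData Cfsg.Agent.KFacts.CoTwo.RSub
open Cfsg.Agent.KFacts.CoTwo.RLarge
open scoped Pointwise commutatorElement

/-! ### a non-diagonal conjugate of `ge my` -/

/-- code of `8 e_1` -/
def e1c : ℕ := 0x842108421084210842108421084310

/-- code of its image -/
def p1c : ℕ := 0x8421084210a4290a4210a421084210

theorem vec_e1c : vec e1c = ((e8 (pt 1) : leechLattice) : GolayPt → ℤ) := by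
  have : ∀ p, vec e1c p = (Pi.single (pt 1) 8 : GolayPt → ℤ) p := by decide +kernel
  rw [e8_coe]; exact funext this

theorem p_e1 {p : Spor.Co2} (hp : Rep 8 MP (toCo0 p)) :
    ((toCo0 p • e8 (pt 1) : leechLattice) : GolayPt → ℤ) = vec p1c :=
  p_step hp (by decide) (by decide +kernel) vec_e1c.symm (by
    rw [Cfsg.Agent.SporadicA.Co1Simple.sqNorm_e8]; norm_num)

theorem bits_y : my.testBit 7 = false ∧ my.testBit 11 = true := by decide

theorem digs : vec p1c (pt 7) = 4 ∧ vec p1c (pt 11) = 4 := by decide +kernel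

theorem not_diag {p : Spor.Co2} (hp : Rep 8 MP (toCo0 p)) {m : ℕ} (hm : inE m = true)
    (h : p⁻¹ * ge my * p = ge m) : False := by
  have h1 : ge my * p = p * ge m := by rw [← h]; group
  have h2 : toCo0 (ge my) • (toCo0 p • e8 (pt 1)) = toCo0 p • (toCo0 (ge m) • e8 (pt 1)) := by
    rw [← mul_smul, ← mul_smul, ← map_mul, ← map_mul, h1]
  rw [ge_e8 hm] at h2
  have hi : ∀ i, sgn (word my i) * vec p1c i = vec p1c i ∨ True := fun i => Or.inr trivial
  have key : ∀ i : GolayPt, sgn (word my i) * vec p1c i =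
      (if m.testBit (idx (pt 1)) then -(vec p1c i) else vec p1c i) := by
    intro i
    have h3 := congrArg (fun x : leechLattice => (x : GolayPt → ℤ) i) h2
    change ((toCo0 (ge my) • (toCo0 p • e8 (pt 1)) : leechLattice) : GolayPt → ℤ) i = _ at h3
    rw [ge_smul iy, p_e1 hp] at h3
    rw [h3]
    split_ifs with hc
    · rw [Cfsg.Agent.SporadicA.Co0Mono.smul_neg]
      show -((toCo0 p • e8 (pt 1) : leechLattice) : GolayPt → ℤ) i = _
      rw [p_e1 hp]
    · rw [p_e1 hp]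
  have k7 := key (pt 7)
  have k11 := key (pt 11)
  rw [word_apply, idx_pt (by norm_num : 7 < 24), bits_y.1, digs.1] at k7
  rw [word_apply, idx_pt (by norm_num : 11 < 24), bits_y.2, digs.2] at k11
  simp only [Bool.false_eq_true, if_false, if_true, sgn_zero, sgn_one] at k7 k11
  split_ifs at k7 k11 <;> omega

/-! ### irreducibility -/

theorem chkA : (R16.all fun Q => Nat.beq Q idP || B10.any fun b =>
    !(Nat.beq (Nat.xor b (pimg Q b)) 0) && !(Nat.beq (Nat.xor b (pimg Q b)) mz)) = true := by decide +kernel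

/-- test -/
def tlB (t : ℕ) : Bool := okP t && Nat.blt t (2 ^ 120) && Nat.beq (pimg t mz) mz

theorem chkTL : TL.all tlB = true := by decide +kernel

theorem chkTL2 : TL2.all tlB = true := by decide +kernel

theorem tl_mem {t : ℕ} (h : tlB t = true) : okP t = true ∧ t < 2 ^ 120 ∧ mo2 0 t ∈ P := by
  unfold tlB at h
  rw [Bool.and_eq_true, Bool.and_eq_true, Nat.blt_eq] at h
  exact ⟨h.1.1, h.1.2, (mo2_mem_P inE_zero h.1.1 h.1.2).2 (Nat.eq_of_beq_eq_true h.2)⟩

theorem chkTL_img : (S32.all fun n => (Nat.beq n 0 || Nat.beq n mz) || TL.any fun t => Nat.beq (pimg t my) n) = true := by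
  decide +kernel

theorem chkTL2_img : (R16.all fun Q => Nat.beq Q idP || TL2.any fun t => Nat.beq (pcomp t Q0) (pcomp Q t)) = true := by
  decide +kernel

theorem Q0_mem : Q0 ∈ R16 := memL_iff.1 (by decide +kernel)

theorem mem_S32_of_ge {n : ℕ} (hn : inE n = true) (h : ge n ∈ R) : n ∈ S32 := by
  obtain ⟨m, Q, hm, hQ, he⟩ := exists_of_mem_R h
  have := (mo2_injT hn (mem_S32_iff.1 hm).1 (mem_L22_of_R16 idP_mem) (mem_L22_of_R16 hQ) he).1
  rw [this]; exact hm

theorem one_ne_z : (1 : Spor.Co2) ≠ ge mz := fun h => large.z_ne h.symm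

section irr

variable {N : Subgroup Spor.Co2} (hN : N ≤ R) (hinv : ∀ u ∈ P, ∀ y ∈ N, u * y * u⁻¹ ∈ N)

include hN hinv

theorem exists_ge {y : Spor.Co2} (hy : y ∈ N) (h1 : y ≠ 1) (hz : y ≠ ge mz) :
    ∃ n ∈ S32, n ≠ 0 ∧ n ≠ mz ∧ ge n ∈ N := by
  obtain ⟨m, Q, hm, hQ, rfl⟩ := exists_of_mem_R (hN hy)
  have hE := (mem_S32_iff.1 hm).1
  have hL := mem_L22_of_R16 hQ
  have h2 := List.all_eq_true.1 chkA Q hQ
  rw [Bool.or_eq_true, List.any_eq_true] at h2
  rcases h2 with h2 | ⟨b, hb, h2⟩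
  · have hQ' : Q = idP := Nat.eq_of_beq_eq_true h2
    subst hQ'
    refine ⟨m, hm, ?_, ?_, hy⟩
    · rintro rfl; exact h1 mo2_one
    · rintro rfl; exact hz rfl
  · have hbE : inE b = true := List.all_eq_true.1 chkB b hb
    rw [Bool.and_eq_true, Bool.not_eq_true', Bool.not_eq_true'] at h2
    have e1 : mo2 m Q * ge b * (mo2 m Q)⁻¹ = ge (pimg Q b) := by
      unfold ge
      rw [mo2_conj_E hE hbE (okP_of_mem hL) (lt_of_mem hL), mul_inv_cancel_right]
    have hpE := inE_pimg (okP_of_mem hL) hbE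
    have e2 : ge (b ^^^ pimg Q b) = ge b * mo2 m Q * (ge b)⁻¹ * (mo2 m Q)⁻¹ := by
      rw [← ge_mul hbE hpE, ← e1]
      have h3 : (ge b)⁻¹ = ge b := inv_eq_of_mul_eq_one_left (ge_sq hbE)
      rw [h3]; group
    have h3 : ge (b ^^^ pimg Q b) ∈ N := by
      rw [e2]
      exact N.mul_mem (hinv _ (ge_mem_P hbE) _ hy) (N.inv_mem hy)
    refine ⟨_, mem_S32_of_ge (inE_xor hbE hpE) (hN h3), ?_, ?_, h3⟩
    · intro hc
      have : Nat.beq (Nat.xor b (pimg Q b)) 0 = true := by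
        rw [show Nat.xor b (pimg Q b) = 0 from hc]; rfl
      rw [h2.1] at this
      exact absurd this (by decide)
    · intro hc
      have : Nat.beq (Nat.xor b (pimg Q b)) mz = true := by
        rw [show Nat.xor b (pimg Q b) = mz from hc]; exact Nat.beq_refl _
      rw [h2.2] at this
      exact absurd this (by decide)

theorem conj_iff {u y : Spor.Co2} (hu : u ∈ P) : u * y * u⁻¹ ∈ N ↔ y ∈ N := by
  constructor
  · intro h
    have h1 := hinv _ (P.inv_mem hu) _ h
    have e : u⁻¹ * (u * y * u⁻¹) * u⁻¹⁻¹ = y := by group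
    rwa [e] at h1
  · exact hinv u hu y

theorem ge_iff {n : ℕ} (hn : n ∈ S32) (h0 : n ≠ 0) (hz : n ≠ mz) : ge n ∈ N ↔ ge my ∈ N := by
  have h1 := List.all_eq_true.1 chkTL_img n hn
  rw [Bool.or_eq_true, Bool.or_eq_true, List.any_eq_true] at h1
  rcases h1 with (h1 | h1) | ⟨t, ht, h1⟩
  · exact absurd (Nat.eq_of_beq_eq_true h1) h0
  · exact absurd (Nat.eq_of_beq_eq_true h1) hz
  · obtain ⟨t1, t2, t3⟩ := tl_mem (List.all_eq_true.1 chkTL t ht)
    rw [← conj_ge t1 t2 iy (Nat.eq_of_beq_eq_true h1)]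
    exact conj_iff hN hinv t3

theorem perm_iff {Q : ℕ} (hQ : Q ∈ R16) (h : Q ≠ idP) : mo2 0 Q ∈ N ↔ mo2 0 Q0 ∈ N := by
  have h1 := List.all_eq_true.1 chkTL2_img Q hQ
  rw [Bool.or_eq_true, List.any_eq_true] at h1
  rcases h1 with h1 | ⟨t, ht, h1⟩
  · exact absurd (Nat.eq_of_beq_eq_true h1) h
  · obtain ⟨t1, t2, t3⟩ := tl_mem (List.all_eq_true.1 chkTL2 t ht)
    have hP := okP_of_mem (mem_L22_of_R16 hQ)
    have hP0 := okP_of_mem (mem_L22_of_R16 Q0_mem)
    have e0 : ∀ {A : ℕ}, okP A = true → pimg A 0 = 0 := fun h => pimg_zero (ok_iff.1 (ok_of_okP h)).1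
    have e1 : mo2 0 t * mo2 0 Q0 = mo2 0 Q * mo2 0 t := by
      rw [mo2_mul inE_zero inE_zero t1 hP0, mo2_mul inE_zero inE_zero hP t1, e0 t1, e0 hP,
        Nat.eq_of_beq_eq_true h1]
    have e2 : mo2 0 Q = mo2 0 t * mo2 0 Q0 * (mo2 0 t)⁻¹ := by rw [e1]; group
    rw [e2]
    exact conj_iff hN hinv t3

end irr

/-- **`P` acts irreducibly on `R/⟨z⟩`.** -/
theorem irr : Cfsg.Agent.KFacts.LargeO2.Irr R (ge mz) := by
  intro N hN hinv'
  have hinv : ∀ u ∈ P, ∀ y ∈ N, u * y * u⁻¹ ∈ N := fun u hu y hy => hinv' u (mem_P.1 hu) y hy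
  by_cases hsmall : ∀ y ∈ N, y = 1 ∨ y = ge mz
  · exact Or.inl hsmall
  right
  push Not at hsmall
  obtain ⟨y, hy, h1, hz⟩ := hsmall
  obtain ⟨n, hn, n0, nz, hnN⟩ := exists_ge hN hinv hy h1 hz
  have hyN : ge my ∈ N := (ge_iff hN hinv hn n0 nz).1 hnN
  have my0 : my ≠ 0 := by decide
  have myz : my ≠ mz := by decide
  have hmyS : my ∈ S32 := memL_iff.1 (by decide +kernel)
  have hall : ∀ n ∈ S32, n ≠ 0 → n ≠ mz → ge n ∈ N := fun n hn n0 nz => (ge_iff hN hinv hn n0 nz).2 hyN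
  have hzN : ge mz ∈ N := by
    have h2 : my ^^^ mz ∈ S32 := memL_iff.1 (by decide +kernel)
    have h3 := N.mul_mem hyN (hall _ h2 (by decide) (by decide))
    rw [ge_mul iy (mem_S32_iff.1 h2).1, ← Nat.xor_assoc, Nat.xor_self, Nat.zero_xor] at h3
    exact h3
  have hall' : ∀ n ∈ S32, ge n ∈ N := by
    intro n hn
    by_cases n0 : n = 0
    · rw [n0, ge_zero]; exact N.one_mem
    · by_cases nz : n = mz
      · rw [nz]; exact hzN
      · exact hall n hn n0 nz
  -- a non-diagonal element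
  obtain ⟨p, hp, hr⟩ := exists_p
  have hx : p⁻¹ * ge my * p ∈ N := by
    have h2 := hinv _ (P.inv_mem hp) _ hyN
    rwa [inv_inv] at h2
  obtain ⟨m, Q, hm, hQ, he⟩ := exists_of_mem_R (hN hx)
  have hQ1 : Q ≠ idP := by
    rintro rfl
    exact not_diag hr (mem_S32_iff.1 hm).1 he
  have hdec : ∀ {m Q : ℕ}, m ∈ S32 → Q ∈ R16 → mo2 m Q = ge m * mo2 0 Q := by
    intro m Q hm hQ
    unfold ge
    rw [mo2_mul_left (mem_S32_iff.1 hm).1 inE_zero (okP_of_mem (mem_L22_of_R16 hQ)), Nat.xor_zero]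
  have hQN : mo2 0 Q ∈ N := by
    rw [he, hdec hm hQ] at hx
    exact (N.mul_mem_cancel_left (hall' m hm)).1 hx
  have hQ0 : mo2 0 Q0 ∈ N := (perm_iff hN hinv hQ hQ1).1 hQN
  apply le_antisymm hN
  intro g hg
  obtain ⟨m', Q', hm', hQ', rfl⟩ := exists_of_mem_R hg
  rw [hdec hm' hQ']
  refine N.mul_mem (hall' m' hm') ?_
  by_cases h2 : Q' = idP
  · rw [h2, mo2_one]; exact N.one_mem
  · exact (perm_iff hN hinv hQ' h2).2 hQ0

/-! ### the fixed points of the Sylow subgroup -/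

theorem my_mem : my ∈ S32 := memL_iff.1 (by decide +kernel)

theorem v_mem : ge my ∈ R := ge_mem_R my_mem

theorem v_ne_one : ge my ≠ 1 := by
  intro h
  have h1 := (mo2_injT iy inE_zero (mem_L22_of_R16 idP_mem) (mem_L22_of_R16 idP_mem) (h.trans mo2_one.symm)).1
  exact absurd h1 (by decide)

theorem v_ne_z : ge my ≠ ge mz := by
  intro h
  have h1 := (mo2_injT iy iz (mem_L22_of_R16 idP_mem) (mem_L22_of_R16 idP_mem) h).1
  exact absurd h1 (by decide)

theorem chkV : (L22.all fun Q => Nat.beq (pimg Q my) my || Nat.beq (pimg Q my) (Nat.xor my mz)) = true := by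
  decide +kernel

theorem conj_ge' {m n Q : ℕ} (hm : inE m = true) (hn : inE n = true) (hQ : Q ∈ L22) :
    mo2 m Q * ge n * (mo2 m Q)⁻¹ = ge (pimg Q n) := by
  unfold ge
  rw [mo2_conj_E hm hn (okP_of_mem hQ) (lt_of_mem hQ), mul_inv_cancel_right]

theorem hvD : ∀ d ∈ (T : Set Spor.Co2), d * ge my * d⁻¹ = ge my ∨ d * ge my * d⁻¹ = ge my * ge mz := by
  rintro _ ⟨m, Q, hm, hQ, rfl⟩
  rw [conj_ge' hm iy hQ]
  have h := List.all_eq_true.1 chkV Q hQ
  rw [Bool.or_eq_true] at h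
  rcases h with h | h
  · left; rw [Nat.eq_of_beq_eq_true h]
  · right; rw [Nat.eq_of_beq_eq_true h, ge_mul iy iz]; rfl

theorem chkFixV : (S32.all fun m => (Nat.beq m 0 || Nat.beq m mz || Nat.beq m my || Nat.beq m (Nat.xor my mz)) ||
    L22.any fun Q => !(Nat.beq (pimg Q m) m) && !(Nat.beq (pimg Q m) (Nat.xor m mz))) = true := by
  decide +kernel

theorem hfix : ∀ x ∈ R, (∀ d ∈ (T : Set Spor.Co2), d * x * d⁻¹ = x ∨ d * x * d⁻¹ = x * ge mz) →
    x = 1 ∨ x = ge mz ∨ x = ge my ∨ x = ge my * ge mz := by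
  intro x hx h
  obtain ⟨m, Q, hm, hQ, rfl⟩ := exists_of_mem_R hx
  have hE := (mem_S32_iff.1 hm).1
  have hL := mem_L22_of_R16 hQ
  have hQ' : Q = idP := by
    have h2 := List.all_eq_true.1 chkA Q hQ
    rw [Bool.or_eq_true, List.any_eq_true] at h2
    rcases h2 with h2 | ⟨b, hb, h2⟩
    · exact Nat.eq_of_beq_eq_true h2
    · exfalso
      have hbE : inE b = true := List.all_eq_true.1 chkB b hb
      have hpE := inE_pimg (okP_of_mem hL) hbE
      rw [Bool.and_eq_true, Bool.not_eq_true', Bool.not_eq_true'] at h2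
      have e1 : mo2 m Q * ge b = ge (pimg Q b) * mo2 m Q := by
        rw [← conj_ge' hE hbE hL, inv_mul_cancel_right]
      have e3 : (ge b)⁻¹ = ge b := inv_eq_of_mul_eq_one_left (ge_sq hbE)
      have e2 : ge b * mo2 m Q * (ge b)⁻¹ = ge (b ^^^ pimg Q b) * mo2 m Q := by
        rw [e3, mul_assoc, e1, ← mul_assoc, ge_mul hbE hpE]
      have hbT : ge b ∈ T := mo2_mem_T hbE (mem_L22_of_R16 idP_mem)
      have e4 : ge (b ^^^ pimg Q b) = 1 ∨ ge (b ^^^ pimg Q b) = ge mz := by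
        rcases h _ hbT with h3 | h3
        · left
          rw [e2] at h3
          exact mul_eq_right.1 h3
        · right
          rw [e2, z_R hx] at h3
          exact mul_right_cancel h3
      rcases e4 with e4 | e4
      · have h5 := (mo2_injT (inE_xor hbE hpE) inE_zero (mem_L22_of_R16 idP_mem) (mem_L22_of_R16 idP_mem)
          (e4.trans mo2_one.symm)).1
        have : Nat.beq (Nat.xor b (pimg Q b)) 0 = true := by
          rw [show Nat.xor b (pimg Q b) = 0 from h5]; rfl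
        rw [h2.1] at this
        exact absurd this (by decide)
      · have h5 := (mo2_injT (inE_xor hbE hpE) iz (mem_L22_of_R16 idP_mem) (mem_L22_of_R16 idP_mem) e4).1
        have : Nat.beq (Nat.xor b (pimg Q b)) mz = true := by
          rw [show Nat.xor b (pimg Q b) = mz from h5]; exact Nat.beq_refl _
        rw [h2.2] at this
        exact absurd this (by decide)
  subst hQ'
  have h2 := List.all_eq_true.1 chkFixV m hm
  rw [Bool.or_eq_true, Bool.or_eq_true, Bool.or_eq_true, Bool.or_eq_true, List.any_eq_true] at h2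
  rcases h2 with (((h2 | h2) | h2) | h2) | ⟨S, hS, h2⟩
  · left; rw [Nat.eq_of_beq_eq_true h2, mo2_one]
  · right; left; rw [Nat.eq_of_beq_eq_true h2]; rfl
  · right; right; left; rw [Nat.eq_of_beq_eq_true h2]; rfl
  · right; right; right; rw [Nat.eq_of_beq_eq_true h2, ge_mul iy iz]; rfl
  · exfalso
    rw [Bool.and_eq_true, Bool.not_eq_true', Bool.not_eq_true'] at h2
    have hST : mo2 0 S ∈ T := mo2_mem_T inE_zero hS
    have h3 := h _ hST
    change mo2 0 S * ge m * (mo2 0 S)⁻¹ = ge m ∨ mo2 0 S * ge m * (mo2 0 S)⁻¹ = ge m * ge mz at h3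
    rw [conj_ge' inE_zero hE hS, ge_mul hE iz] at h3
    have hpE := inE_pimg (okP_of_mem hS) hE
    rcases h3 with h3 | h3
    · have h5 := (mo2_injT hpE hE (mem_L22_of_R16 idP_mem) (mem_L22_of_R16 idP_mem) h3).1
      rw [h5, Nat.beq_refl] at h2
      exact absurd h2.1 (by decide)
    · have h5 := (mo2_injT hpE (inE_xor hE iz) (mem_L22_of_R16 idP_mem) (mem_L22_of_R16 idP_mem) h3).1
      have : Nat.beq (pimg S m) (Nat.xor m mz) = true := by
        rw [h5]; exact Nat.beq_refl _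
      rw [h2.2] at this
      exact absurd this (by decide)

theorem hD : ∀ d ∈ (T : Set Spor.Co2), d * ge mz = ge mz * d := fun d hd => z_comm d hd

theorem hna : ∃ a ∈ R, ∃ b ∈ R, a * b ≠ b * a := by
  by_contra h
  push Not at h
  rcases cent_R v_mem (fun y hy => h _ v_mem y hy) with h1 | h1
  · exact v_ne_one h1
  · exact v_ne_z h1

theorem hperf : commutator (Subgroup.centralizer ({ge mz} : Set Spor.Co2)) = ⊤ := by
  have h1 : (commutator P).map P.subtype = P := by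
    rw [_root_.commutator_def, Subgroup.map_commutator, ← MonoidHom.range_eq_map, Subgroup.range_subtype]
    exact commutator_P
  have h2 : (commutator P : Subgroup P) = ⊤ := by
    apply Subgroup.map_injective P.subtype_injective
    rw [← MonoidHom.range_eq_map, Subgroup.range_subtype]
    exact h1
  exact h2

theorem hodd : Odd (Subgroup.centralizer ({ge mz} : Set Spor.Co2)).index := by
  have h1 : Odd T.index := by
    rw [← Nat.not_even_iff_odd, even_iff_two_dvd]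
    exact Cfsg.Agent.Co2Type.FactsClass.odd_index
  exact h1.of_dvd_nat (Subgroup.index_dvd_of_le T_le_P)

/-- `ge mz1`, a conjugate of `z`, commutes with `z` and is not in `R` -/
theorem mz1_notMem : ge mz1 ∉ R := by
  intro h
  have h1 := mem_S32_of_ge iz1 h
  have h2 : memL mz1 S32 = false := by decide +kernel
  rw [← memL_iff, h2] at h1
  exact absurd h1 (by decide)

/-- `k` maps `z` to `ge mz1 ∈ C(z) ∖ R`. -/
theorem exists_k : ∃ k : Spor.Co2, k * ge mz * k⁻¹ = ge mz1 ∧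
    (k * ge mz * k⁻¹) * ge mz = ge mz * (k * ge mz * k⁻¹) ∧ k * ge mz * k⁻¹ ∉ R := by
  obtain ⟨k, hk⟩ := isConj_iff.1 (Cfsg.Agent.Co2Type.FactsCo2.cls.z1A)
  refine ⟨k, hk, ?_, ?_⟩
  · rw [hk, ge_mul iz1 iz, ge_mul iz iz1, Nat.xor_comm]
  · rw [hk]; exact mz1_notMem

end Cfsg.Agent.KFacts.CoTwo.RIrr
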