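import Cfsg.Agent.KFacts.CoTwo.Perf
import Cfsg.Agent.KFacts.CoTwo.RData
import Cfsg.Agent.Co2Type.Quad

/-!
# `R = O₂(C(z))` in `Spor.Co2`: a large extraspecial subgroup of order `2^9` (helper902)

`R`: the elements of `P = C(z)` fixing the vectors `8 e_i`, `i` in the octad `O`. `mem_R_iff`: the monomial elements
`mo2 m Q`, `m` disjoint from `O`, `Q` fixing `O` pointwise. `large : Large R (ge mz)`, `card_R`, `weakly`: `z` is the only
conjugate of `z` in `R`.
-/

set_option autoImplicit false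
set_option linter.dupNamespace false
set_option linter.unusedVariables false

namespace Cfsg.Agent.KFacts.CoTwo.RSub

open Cfsg Cfsg.Agent.SporadicA.GolayBase Cfsg.Agent.SporadicA.GolayPerm
open Cfsg.Agent.SporadicStructure.M24El Cfsg.Agent.SporadicA.Co0Mono
open Cfsg.Agent.Co2Type.Mono Cfsg.Agent.Co2Type.TGroup Cfsg.Agent.Co2Type.TData Cfsg.Agent.Co2Type.FactsD
open Cfsg.Agent.SporadicStructure.Co0Base (e8 e8_coe)
open Cfsg.Agent.SporadicStructure.LeechBase (zmod2_cases)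
open Cfsg.Agent.SporadicA.Co1Simple (N exists_sign_perm sign_mem_N)
open Cfsg.Agent.KFacts.CoTwo.Base Cfsg.Agent.KFacts.CoTwo.Data Cfsg.Agent.KFacts.CoTwo.MPerf
open Cfsg.Agent.KFacts.CoTwo.Perf Cfsg.Agent.KFacts.CoTwo.RData
open scoped Pointwise commutatorElement

/-! ### monomial elements, again -/

theorem mo2_smul {m Q : ℕ} (hm : inE m = true) (hQ : okP Q = true) (x : leechLattice) (i : GolayPt) :
    ((toCo0 (mo2 m Q) • x : leechLattice) : GolayPt → ℤ) i =
      sgn (word m i) * (x : GolayPt → ℤ) ((el Q : Equiv.Perm GolayPt).symm i) := by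
  rw [toCo0_mo2 hm hQ]
  unfold mo
  rw [mul_smul, signCo0_smul, signMap_apply, permCo0_smul, permMap_apply, coe_cd (isCode_of_inE hm)]

/-- Elements of `Spor.Co2` preserving the frame are monomial. -/
theorem mono_of_N {g : Spor.Co2} (h : toCo0 g ∈ N) :
    ∃ m Q, inE m = true ∧ okP Q = true ∧ Q < 2 ^ 120 ∧ g = mo2 m Q := by
  obtain ⟨c, σ, hcσ⟩ := exists_sign_perm h
  obtain ⟨m, hm, rfl⟩ := exists_cd c
  obtain ⟨Q, hQ, hlt, rfl⟩ := exists_el σ
  have hg : toCo0 g = mo m Q := hcσ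
  have hv : ∀ i, sgn (word m i) * (Spor.leechU : GolayPt → ℤ) ((el Q : Equiv.Perm GolayPt).symm i) =
      (Spor.leechU : GolayPt → ℤ) i := by
    intro i
    have h1 := congrArg (fun x : leechLattice => (x : GolayPt → ℤ) i) (toCo0_smul_leechU g)
    change ((toCo0 g • Spor.leechU : leechLattice) : GolayPt → ℤ) i = _ at h1
    rw [hg] at h1
    unfold mo at h1
    rwa [mul_smul, signCo0_smul, signMap_apply, permCo0_smul, permMap_apply, coe_cd hm] at h1
  have key : ∀ i : GolayPt, idx i = 0 ∨ idx i = 23 → m.testBit (idx i) = false ∧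
      (idx ((el Q : Equiv.Perm GolayPt).symm i) = 0 ∨ idx ((el Q : Equiv.Perm GolayPt).symm i) = 23) := by
    intro i hi
    have h1 := hv i
    rw [leechU_apply, leechU_apply, if_pos hi] at h1
    by_cases h2 : idx ((el Q : Equiv.Perm GolayPt).symm i) = 0 ∨ idx ((el Q : Equiv.Perm GolayPt).symm i) = 23
    · refine ⟨?_, h2⟩
      rw [if_pos h2, word_apply] at h1
      by_contra h3
      rw [Bool.not_eq_false] at h3
      rw [if_pos h3, sgn_one] at h1
      norm_num at h1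
    · rw [if_neg h2, mul_zero] at h1
      norm_num at h1
  have hp := (ok_iff.1 hQ).1
  obtain ⟨k1, k2⟩ := key none (Or.inr rfl)
  obtain ⟨k3, k4⟩ := key (some 0) (Or.inl rfl)
  have e1 : papp Q (idx ((el Q : Equiv.Perm GolayPt).symm none)) = 23 := by
    have h1 := congrArg idx ((el Q : Equiv.Perm GolayPt).apply_symm_apply none)
    rw [coe_el hQ, idx_permOf] at h1
    rw [coe_el hQ]
    exact h1
  have e2 : papp Q (idx ((el Q : Equiv.Perm GolayPt).symm (some 0))) = 0 := by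
    have h1 := congrArg idx ((el Q : Equiv.Perm GolayPt).apply_symm_apply (some 0))
    rw [coe_el hQ, idx_permOf] at h1
    rw [coe_el hQ]
    exact h1
  have hP : okP Q = true := by
    refine okP_iff.2 ⟨hQ, ?_⟩
    rcases k2 with h1 | h1 <;> rcases k4 with h2 | h2 <;> rw [h1] at e1 <;> rw [h2] at e2
    · rw [e1] at e2; exact absurd e2 (by norm_num)
    · right; exact ⟨e1, e2⟩
    · left; exact ⟨e2, e1⟩
    · rw [e1] at e2; exact absurd e2 (by norm_num)
  have hE : inE m = true := inE_iff.2 ⟨hm, k3, k1⟩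
  refine ⟨m, Q, hE, hP, hlt, ?_⟩
  apply toCo0_injective
  rw [hg, toCo0_mo2 hE hP]

/-! ### the sixteen permutations -/

theorem chkR16 : (R16.all fun Q => memL Q L22 && fxB [23, 0, 2, 3, 10, 18, 19, 22] Q) = true := by decide +kernel

theorem nodup_R16 : R16.Nodup := nodup_of_nodupL (by decide +kernel)

theorem R16_images : ((List.range 24).filter fun b => !(mO.testBit b)).all
    (fun b => R16.any fun Q => Nat.beq (papp Q 1) b) = true := by decide +kernel

theorem mem_L22_of_R16 {Q : ℕ} (h : Q ∈ R16) : Q ∈ L22 := by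
  have h1 := List.all_eq_true.1 chkR16 Q h
  rw [Bool.and_eq_true] at h1
  exact memL_iff.1 h1.1

theorem fx_of_R16 {Q : ℕ} (h : Q ∈ R16) : Fx [23, 0, 2, 3, 10, 18, 19, 22] (el Q) := by
  have h1 := List.all_eq_true.1 chkR16 Q h
  rw [Bool.and_eq_true] at h1
  exact (fx_of h1.2).2

/-- fixing the points of the octad -/
theorem fx_iff {σ : M24} : Fx [23, 0, 2, 3, 10, 18, 19, 22] σ ↔ ∀ i ∈ O, (σ : Equiv.Perm GolayPt) i = i := by
  have key : ∀ i : GolayPt, i ∈ O ↔ idx i ∈ [23, 0, 2, 3, 10, 18, 19, 22] := by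
    unfold O; decide +kernel
  constructor
  · intro h i hi
    have := h.2 (idx i) ((key i).1 hi)
    rwa [pt_idx] at this
  · intro h
    refine ⟨fun p hp => by rw [h p hp]; exact hp, fun i hi => ?_⟩
    have hi' : i < 24 := by
      have : ∀ a ∈ [23, 0, 2, 3, 10, 18, 19, 22], a < 24 := by decide
      exact this i hi
    exact h _ ((key _).2 (by rw [idx_pt hi']; exact hi))

theorem R16_complete {Q : ℕ} (hQ : ok Q = true) (hlt : Q < 2 ^ 120) (h : Fx [23, 0, 2, 3, 10, 18, 19, 22] (el Q)) :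
    Q ∈ R16 := by
  have h1 := img_mem' (a := 1) (by norm_num) (by decide) h
  have h2 := List.all_eq_true.1 R16_images _ h1
  rw [List.any_eq_true] at h2
  obtain ⟨Q', hQ', h3⟩ := h2
  have h3' := Nat.eq_of_beq_eq_true h3
  have hL := mem_L22_of_R16 hQ'
  have hok' := ok_of_mem hL
  have f1 := fx_of_R16 hQ'
  have f2 := f1.inv.mul h
  have hone : (((el Q')⁻¹ * el Q : M24) : Equiv.Perm GolayPt) = 1 := by
    refine Cfsg.Agent.SporadicStructure.M24Frame.eq_one_of_fix_frame ((el Q')⁻¹ * el Q : M24).2 O_mem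
      (s := O) subset_rfl (by rw [octad_card O_mem]; norm_num) (fx_iff.1 f2) (p := pt 1) (by unfold O; decide +kernel) ?_
    show (el Q' : Equiv.Perm GolayPt)⁻¹ ((el Q : Equiv.Perm GolayPt) (pt 1)) = pt 1
    rw [Equiv.Perm.inv_eq_iff_eq]
    apply idx_injective
    rw [coe_el hok', idx_permOf, idx_pt (by norm_num : 1 < 24), h3']
  have h4 : (el Q')⁻¹ * el Q = 1 := Subtype.ext hone
  have h5 : el Q = el Q' := (inv_mul_eq_one.1 h4).symm
  rw [el_inj hQ hok' hlt (lt_of_mem hL) h5]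
  exact hQ'

/-! ### the masks disjoint from the octad -/

/-- mask disjoint from `O` -/
def dj (m : ℕ) : Bool := Nat.beq (Nat.land m mO) 0

theorem chkS32 : allSp B10 (fun m => cond (dj m) (memL m S32) true) 0 = true := by decide +kernel

theorem chkS32' : (S32.all fun m => inE m && dj m) = true := by decide +kernel

theorem nodup_S32 : S32.Nodup := nodup_of_nodupL (by decide +kernel)

theorem mem_S32_iff {m : ℕ} : m ∈ S32 ↔ inE m = true ∧ dj m = true := by
  constructor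
  · intro h
    have h1 := List.all_eq_true.1 chkS32' m h
    rwa [Bool.and_eq_true] at h1
  · rintro ⟨h1, h2⟩
    have h3 := allSp_zero chkS32 (sp_B10 h1)
    rw [h2, cond_true] at h3
    exact memL_iff.1 h3

theorem dj_iff {m : ℕ} : dj m = true ↔ ∀ i ∈ O, m.testBit (idx i) = false := by
  have h1 : dj m = true ↔ Nat.land m mO = 0 :=
    ⟨Nat.eq_of_beq_eq_true, fun h => by unfold dj; rw [h]; exact Nat.beq_refl _⟩
  rw [h1]
  constructor
  · intro h i hi
    have h2 : (m &&& mO).testBit (idx i) = false := by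
      have : m &&& mO = 0 := h
      rw [this, Nat.zero_testBit]
    rw [Nat.testBit_and] at h2
    have h3 : mO.testBit (idx i) = true := mem_fin.1 hi
    rw [h3, Bool.and_true] at h2
    exact h2
  · intro h
    show m &&& mO = 0
    apply Nat.eq_of_testBit_eq
    intro i
    rw [Nat.testBit_and, Nat.zero_testBit]
    by_cases hi : i < 24
    · by_cases h3 : mO.testBit i = true
      · have h4 : pt i ∈ O := mem_fin.2 (by rw [idx_pt hi]; exact h3)
        have := h _ h4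
        rw [idx_pt hi] at this
        rw [this, Bool.false_and]
      · rw [Bool.not_eq_true] at h3
        rw [h3, Bool.and_false]
    · have h2 : mO < 2 ^ i := lt_of_lt_of_le mO_lt (Nat.pow_le_pow_right (by norm_num) (by omega))
      rw [Nat.testBit_lt_two_pow h2, Bool.and_false]

/-! ### the group `R` -/

theorem im8_supp {g : Spor.Co2} (hg : g ∈ P) {j : GolayPt} (hj : j ∈ O) (i : GolayPt) (hi : i ∉ O) :
    ((toCo0 g • e8 j : leechLattice) : GolayPt → ℤ) i = 0 := by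
  have key : ∀ i : GolayPt, sg i = if i ∈ O then 1 else -1 := by
    unfold sg O; decide +kernel
  have h1 : toCo0 (ge mz) • e8 j = e8 j := by
    apply Subtype.ext
    funext k
    rw [z_smul, e8_coe, Pi.single_apply]
    by_cases hk : k = j
    · rw [key, if_pos (by rw [hk]; exact hj)]; rw [one_mul]
    · rw [if_neg hk, mul_zero]
  have h2 : toCo0 (ge mz) • (toCo0 g • e8 j) = toCo0 g • e8 j := by
    rw [← mul_smul, ← map_mul, ← mem_P.1 hg, map_mul, mul_smul, h1]
  have h3 := z_smul (toCo0 g • e8 j) i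
  rw [h2, key, if_neg hi] at h3
  omega

/-- `R` -/
def R : Subgroup Spor.Co2 where
  carrier := {g | g ∈ P ∧ ∀ i ∈ O, toCo0 g • e8 i = e8 i}
  one_mem' := ⟨P.one_mem, fun i _ => by rw [map_one, one_smul]⟩
  mul_mem' := fun {a b} ha hb => ⟨P.mul_mem ha.1 hb.1, fun i hi => by rw [map_mul, mul_smul, hb.2 i hi, ha.2 i hi]⟩
  inv_mem' := fun {a} ha => ⟨P.inv_mem ha.1, fun i hi => by rw [map_inv, inv_smul_eq_iff, ha.2 i hi]⟩

theorem mem_R_def {g : Spor.Co2} : g ∈ R ↔ g ∈ P ∧ ∀ i ∈ O, toCo0 g • e8 i = e8 i := Iff.rfl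

theorem R_le_P : R ≤ P := fun g hg => hg.1

/-- the monomial elements of `R` -/
theorem mo2_mem_R {m Q : ℕ} (hm : m ∈ S32) (hQ : Q ∈ R16) : mo2 m Q ∈ R := by
  obtain ⟨hE, hd⟩ := mem_S32_iff.1 hm
  have hL := mem_L22_of_R16 hQ
  refine ⟨T_le_P (mo2_mem_T hE hL), fun i hi => ?_⟩
  apply Subtype.ext
  funext k
  rw [mo2_smul hE (okP_of_mem hL), e8_coe, Pi.single_apply, Pi.single_apply]
  have hfix := fx_iff.1 (fx_of_R16 hQ) i hi
  have h1 : ((el Q : Equiv.Perm GolayPt).symm k = i) ↔ k = i := by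
    rw [Equiv.symm_apply_eq, hfix]
  simp only [h1]
  by_cases hk : k = i
  · subst hk
    rw [if_pos rfl, word_apply, dj_iff.1 hd k hi]
    simp [sgn_zero]
  · rw [if_neg hk, mul_zero]

theorem exists_of_mem_R {g : Spor.Co2} (h : g ∈ R) : ∃ m Q, m ∈ S32 ∧ Q ∈ R16 ∧ g = mo2 m Q := by
  obtain ⟨hP, hfix⟩ := h
  obtain ⟨m, Q, hm, hQ, hlt, -, -, rfl⟩ := mono_of_fix (hfix none ((mem_O_iff none).2 (Or.inl rfl)))
  have key : ∀ i ∈ O, (el Q : Equiv.Perm GolayPt) i = i ∧ m.testBit (idx i) = false := by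
    intro i hi
    have h1 := congrArg (fun x : leechLattice => (x : GolayPt → ℤ) i) (hfix i hi)
    change ((toCo0 (mo2 m Q) • e8 i : leechLattice) : GolayPt → ℤ) i = ((e8 i : leechLattice) : GolayPt → ℤ) i at h1
    rw [mo2_smul hm hQ, e8_coe, Pi.single_eq_same, Pi.single_apply] at h1
    by_cases h2 : (el Q : Equiv.Perm GolayPt).symm i = i
    · refine ⟨((Equiv.symm_apply_eq _).1 h2).symm, ?_⟩
      rw [if_pos h2, word_apply] at h1
      by_contra h3
      rw [Bool.not_eq_false] at h3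
      rw [if_pos h3, sgn_one] at h1
      norm_num at h1
    · rw [if_neg h2, mul_zero] at h1
      norm_num at h1
  exact ⟨m, Q, mem_S32_iff.2 ⟨hm, dj_iff.2 fun i hi => (key i hi).2⟩,
    R16_complete (ok_of_okP hQ) hlt (fx_iff.2 fun i hi => (key i hi).1), rfl⟩

theorem mem_R_iff {g : Spor.Co2} : g ∈ R ↔ ∃ m Q, m ∈ S32 ∧ Q ∈ R16 ∧ g = mo2 m Q :=
  ⟨exists_of_mem_R, by rintro ⟨m, Q, hm, hQ, rfl⟩; exact mo2_mem_R hm hQ⟩

theorem R_le_T : R ≤ T := by
  intro g hg
  obtain ⟨m, Q, hm, hQ, rfl⟩ := exists_of_mem_R hg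
  exact mo2_mem_T (mem_S32_iff.1 hm).1 (mem_L22_of_R16 hQ)

/-- an element of `R` fixes every vector supported by the octad -/
theorem fix_of_supp {g : Spor.Co2} (h : g ∈ R) {y : leechLattice} (hy : ∀ i, i ∉ O → (y : GolayPt → ℤ) i = 0) :
    toCo0 g • y = y := by
  obtain ⟨m, Q, hm, hQ, rfl⟩ := exists_of_mem_R h
  obtain ⟨hE, hd⟩ := mem_S32_iff.1 hm
  apply Subtype.ext
  funext i
  rw [mo2_smul hE (okP_of_mem (mem_L22_of_R16 hQ))]
  have hfix := fx_iff.1 (fx_of_R16 hQ)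
  by_cases hi : i ∈ O
  · rw [word_apply, dj_iff.1 hd i hi, (Equiv.symm_apply_eq _).2 (hfix i hi).symm]
    simp [sgn_zero]
  · rw [hy i hi, hy, mul_zero]
    intro hc
    have h1 := hfix _ hc
    rw [Equiv.apply_symm_apply] at h1
    rw [← h1] at hc
    exact hi hc

theorem conj_mem {g x : Spor.Co2} (hg : g ∈ P) (hx : x ∈ R) : g * x * g⁻¹ ∈ R := by
  refine ⟨P.mul_mem (P.mul_mem hg hx.1) (P.inv_mem hg), fun i hi => ?_⟩
  rw [map_mul, map_mul, mul_smul, mul_smul, fix_of_supp hx (im8_supp (P.inv_mem hg) hi), ← mul_smul, ← map_mul,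
    mul_inv_cancel, map_one, one_smul]

/-! ### `R` is extraspecial -/

theorem chkMask : (R16.all fun Q => S32.all fun m => Nat.beq (pimg Q m) m || Nat.beq (pimg Q m) (Nat.xor m mz)) = true := by
  decide +kernel

theorem pimg_R {Q m : ℕ} (hQ : Q ∈ R16) (hm : m ∈ S32) : pimg Q m = m ∨ pimg Q m = m ^^^ mz := by
  have h := List.all_eq_true.1 (List.all_eq_true.1 chkMask Q hQ) m hm
  rw [Bool.or_eq_true] at h
  rcases h with h | h
  · exact Or.inl (Nat.eq_of_beq_eq_true h)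
  · exact Or.inr (Nat.eq_of_beq_eq_true h)

theorem chkComm16 : (R16.all fun Q => R16.all fun S => Nat.beq (pcomp Q S) (pcomp S Q)) = true := by decide +kernel

theorem chkSq16 : (R16.all fun Q => Nat.beq (pcomp Q Q) idP) = true := by decide +kernel

theorem ge_mz_mul {m Q : ℕ} (hm : inE m = true) (hQ : okP Q = true) : mo2 m Q * ge mz = ge mz * mo2 m Q → 
    mo2 m Q * ge mz = mo2 (m ^^^ mz) Q := by
  intro h
  rw [h]
  unfold ge
  rw [mo2_mul_left iz hm hQ, Nat.xor_comm]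

theorem z_R {x : Spor.Co2} (hx : x ∈ R) : x * ge mz = ge mz * x := mem_P.1 (R_le_P hx)

theorem sq_R {x : Spor.Co2} (hx : x ∈ R) : x * x = 1 ∨ x * x = ge mz := by
  obtain ⟨m, Q, hm, hQ, rfl⟩ := exists_of_mem_R hx
  have hE := (mem_S32_iff.1 hm).1
  have hP := okP_of_mem (mem_L22_of_R16 hQ)
  rw [mo2_mul hE hE hP hP, Nat.eq_of_beq_eq_true (List.all_eq_true.1 chkSq16 Q hQ)]
  rcases pimg_R hQ hm with h | h
  · left; rw [h, Nat.xor_self, mo2_one]
  · right; rw [h, ← Nat.xor_assoc, Nat.xor_self, Nat.zero_xor]; rfl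

theorem comm_R {x y : Spor.Co2} (hx : x ∈ R) (hy : y ∈ R) : x * y = y * x ∨ x * y = y * x * ge mz := by
  obtain ⟨m, Q, hm, hQ, rfl⟩ := exists_of_mem_R hx
  obtain ⟨n, S, hn, hS, rfl⟩ := exists_of_mem_R hy
  have hE := (mem_S32_iff.1 hm).1
  have hE' := (mem_S32_iff.1 hn).1
  have hP := okP_of_mem (mem_L22_of_R16 hQ)
  have hP' := okP_of_mem (mem_L22_of_R16 hS)
  have hc : pcomp Q S = pcomp S Q :=
    Nat.eq_of_beq_eq_true (List.all_eq_true.1 (List.all_eq_true.1 chkComm16 Q hQ) S hS)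
  have e1 : mo2 m Q * mo2 n S = mo2 (m ^^^ pimg Q n) (pcomp Q S) := mo2_mul hE hE' hP hP'
  have e2 : mo2 n S * mo2 m Q = mo2 (n ^^^ pimg S m) (pcomp Q S) := by rw [mo2_mul hE' hE hP' hP, hc]
  have hyx : mo2 n S * mo2 m Q ∈ R := R.mul_mem (mo2_mem_R hn hS) (mo2_mem_R hm hQ)
  have hin : inE (n ^^^ pimg S m) = true := inE_xor hE' (inE_pimg hP' hE)
  have e3 : mo2 n S * mo2 m Q * ge mz = mo2 ((n ^^^ pimg S m) ^^^ mz) (pcomp Q S) := by
    have h1 := z_R hyx
    rw [e2] at h1 ⊢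
    exact ge_mz_mul hin (okP_pcomp hP hP') h1
  have hA : (m ^^^ pimg Q n) ^^^ (n ^^^ pimg S m) = (m ^^^ pimg S m) ^^^ (n ^^^ pimg Q n) := by
    apply Nat.eq_of_testBit_eq
    intro i
    simp only [Nat.testBit_xor]
    cases m.testBit i <;> cases (pimg Q n).testBit i <;> cases n.testBit i <;> cases (pimg S m).testBit i <;> rfl
  have hB : ∀ {Q m : ℕ}, Q ∈ R16 → m ∈ S32 → m ^^^ pimg Q m = 0 ∨ m ^^^ pimg Q m = mz := by
    intro Q m hQ hm
    rcases pimg_R hQ hm with h | h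
    · left; rw [h, Nat.xor_self]
    · right; rw [h, ← Nat.xor_assoc, Nat.xor_self, Nat.zero_xor]
  have hC : (m ^^^ pimg Q n) = (n ^^^ pimg S m) ∨ (m ^^^ pimg Q n) = (n ^^^ pimg S m) ^^^ mz := by
    have h3 : (m ^^^ pimg Q n) ^^^ (n ^^^ pimg S m) = 0 ∨ (m ^^^ pimg Q n) ^^^ (n ^^^ pimg S m) = mz := by
      rw [hA]
      rcases hB hS hm with h1 | h1 <;> rcases hB hQ hn with h2 | h2 <;> rw [h1, h2]
      · left; rfl
      · right; rw [Nat.zero_xor]
      · right; rw [Nat.xor_zero]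
      · left; rw [Nat.xor_self]
    rcases h3 with h3 | h3
    · left; exact Nat.xor_eq_zero_iff.1 h3
    · right
      rw [← h3, Nat.xor_comm (m ^^^ pimg Q n), ← Nat.xor_assoc, Nat.xor_self, Nat.zero_xor]
  rcases hC with h | h
  · left; rw [e1, e2, h]
  · right; rw [e1, e3, h]

end Cfsg.Agent.KFacts.CoTwo.RSub
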