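import Cfsg.Agent.KFacts.CoTwo.RFin
import Cfsg.Agent.KFacts.SheetMOfT

/-!
# The two sheets of `Spor.Co2` from `DataT` (helper902)
-/

set_option autoImplicit false

namespace Cfsg.Agent.KFacts.CoTwo.Sheets

open Cfsg Cfsg.Agent.Co2Type.TData Cfsg.Agent.Co2Type.FactsD
open Cfsg.Agent.KFacts.CoTwo.RSub Cfsg.Agent.KFacts.CoTwo.RLarge Cfsg.Agent.KFacts.CoTwo.RFin
open Cfsg.Agent.KFacts.SheetInnerT Cfsg.Agent.OddHalf.D8.Sheet Cfsg.Agent.OddHalf.CaseM

/-- `5 ∣ |L|` -/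
theorem five_dvd_quot {L : Type*} [Group L] (D : DataT R (ge mz) L) : 5 ∣ Nat.card L := by
  obtain ⟨π, hs, hker⟩ := D.quot
  have h1 : Nat.card (Subgroup.centralizer ({ge mz} : Set Spor.Co2)) = Nat.card π.ker * Nat.card L := by
    rw [← Subgroup.card_mul_index π.ker, Subgroup.index_ker, MonoidHom.range_eq_top.2 hs, Subgroup.card_top]
  have h2 : π.ker = R.subgroupOf (Subgroup.centralizer ({ge mz} : Set Spor.Co2)) := by
    ext c
    rw [MonoidHom.mem_ker, hker, Subgroup.mem_subgroupOf]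
  have hle : R ≤ Subgroup.centralizer ({ge mz} : Set Spor.Co2) := R_le_P
  have h3 : Nat.card π.ker = 2 ^ 9 := by
    rw [h2, Nat.card_congr (Subgroup.subgroupOfEquivOfLe hle).toEquiv, card_R]
  have h4 := five_dvd
  rw [h1, h3] at h4
  exact (Nat.Coprime.dvd_mul_left (by norm_num : Nat.Coprime 5 (2 ^ 9))).1 h4

theorem sheets [Finite Spor.Co2] {L : Type*} [Group L] (D : DataT R (ge mz) L) :
    SheetE (ge mz) (Subgroup.centralizer ({ge mz} : Set Spor.Co2)) R ∧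
      SheetM (Subgroup.centralizer ({ge mz} : Set Spor.Co2)) R :=
  ⟨D.sheet, Cfsg.Agent.KFacts.SheetMOfT.sheetM D (p := 5) (w := 4) (by norm_num) (by norm_num) (five_dvd_quot D)
    (by rw [card_R])⟩

end Cfsg.Agent.KFacts.CoTwo.Sheets
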